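import Cfsg.Agent.Lib.Fi22Loc.Rec.Model
import Cfsg.Agent.Lib.ThreeTrans.M22.Points
import Cfsg.Agent.Lib.UnitaryTransConj

/-!
For two commuting members the derived centraliser of one meets the centraliser of the other in the derived
centraliser of the other.
-/

set_option autoImplicit false
set_option linter.unusedSectionVars false

namespace CfsgLib.Fi22Loc.Rec

open CfsgFi22Rec
open Matrix Cfsg CfsgLib CfsgLib.UnitaryTransvection CfsgLib.UnitarySimple CfsgThreeTrans.M22

variable {G : Type*} [Group G] {D : Set G}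
variable {F : Type} [Field F] [Fintype F] [DecidableEq F] {hF : Fintype.card F = 2 ^ 2}

local notation "h" => Cfsg.hermForm 6 F 2
local notation "π" => QuotientGroup.mk' (Subgroup.center (Cfsg.SU 6 F 2))

/-- Membership in derived centralisers agrees on commuting members. -/
theorem switch (L : Local D hF) {a g s : G} (ha : a ∈ D) (hg : g ∈ D) (hne : g ≠ a) (cag : Commute a g)
    (hs : s ∈ LC a) (hsg : Commute s g) : s ∈ LC g := by
  obtain ⟨A⟩ := L.chart a ha
  obtain ⟨B⟩ := L.chart g hg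
  obtain ⟨u, hu⟩ := A.pnt_surj hg hne cag
  obtain ⟨k, hk⟩ := QuotientGroup.mk'_surjective _ (A.ψ ⟨s, hs⟩)
  let w : Iso F := ⟨mat k *ᵥ u.1, mat_ne_zero k u.2.1, by rw [su_h]; exact u.2.2⟩
  have hfix := A.pnt_conj L ⟨s, hs⟩ hk.symm u w (c := 1) (one_smul _ _).symm
  rw [hu, hsg.eq, mul_inv_cancel_right, ← hu] at hfix
  obtain ⟨l, hl⟩ := (A.pnt_eq_iff w u).mp hfix.symm
  obtain ⟨m, hm⟩ := UnitaryTransConj.su_trans hF (by norm_num) u.2.1 (Points.u0_ne (F := F) hF) u.2.2
    (Points.u0_iso hF)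
  have hfix' : mat (m * k * m⁻¹) *ᵥ Points.u₀ F = l • Points.u₀ F := by
    rw [mat_mul, mat_mul, ← mulVec_mulVec, ← mulVec_mulVec]
    conv_lhs => rw [← hm, mat_inv_mulVec']
    rw [show mat k *ᵥ u.1 = l • u.1 from hl, mulVec_smul, hm]
  set S : Subgroup ↥(LC a) := (LC g).comap (LC a).subtype
  have hle : ((Points.W hF).map π).comap (MulAut.conj (π m)).toMonoidHom ≤ S.map A.ψ := by
    intro x hx
    obtain ⟨x', rfl⟩ := QuotientGroup.mk'_surjective _ x
    obtain ⟨y, hy, e⟩ := hx
    have hgen : ∀ y ∈ Points.W hF, π (m⁻¹ * y * m) ∈ S.map A.ψ := by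
      intro y hy
      refine Subgroup.closure_induction (p := fun y _ => π (m⁻¹ * y * m) ∈ S.map A.ψ) ?_ ?_ ?_ ?_ hy
      · rintro _ ⟨v, v0, vv, vu, rfl⟩
        have hv' : mat m⁻¹ *ᵥ v ≠ 0 := mat_ne_zero _ v0
        let v' : Iso F := ⟨mat m⁻¹ *ᵥ v, hv', by rw [su_h]; exact vv⟩
        refine ⟨A.pnt' v', ?_, ?_⟩
        · show A.pnt v' ∈ LC g
          refine B.inC _ (A.pnt_mem v') ?_
          rw [← hu]
          refine ((A.pnt_comm_iff v' u).mpr ?_).symm
          show h (mat m⁻¹ *ᵥ v) u.1 = 0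
          rw [← su_h m, mat_inv_mulVec, hm]
          exact vu
        · have := tu_conj hF m⁻¹ vv
          rw [inv_inv] at this
          rw [A.ψ_pnt, this]
      · simp only [mul_one, inv_mul_cancel, map_one]; exact one_mem _
      · intro p q _ _ hp hq
        rw [show m⁻¹ * (p * q) * m = m⁻¹ * p * m * (m⁻¹ * q * m) by group, map_mul]
        exact mul_mem hp hq
      · intro p _ hp
        rw [show m⁻¹ * p⁻¹ * m = (m⁻¹ * p * m)⁻¹ by group, map_inv]
        exact inv_mem hp
    have := hgen y hy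
    rw [map_mul, map_mul, map_inv, e] at this
    simpa [mul_assoc] using this
  have hmem : π k ∈ S.map A.ψ := hle (by
    rw [Subgroup.mem_comap]
    have := Points.stabilizer hF hfix'
    simpa [mul_assoc] using this)
  obtain ⟨t, ht, et⟩ := hmem
  rcases A.ker' (g := (⟨s, hs⟩ : ↥(LC a)) * t⁻¹) (by rw [map_mul, map_inv, et, ← hk, mul_inv_cancel]) with e | e
  · rw [show s = (t : G) from mul_inv_eq_one.mp e]; exact ht
  · rw [show s = a * (t : G) from mul_inv_eq_iff_eq_mul.mp e]
    exact mul_mem (B.inC a ha cag.symm) ht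

end CfsgLib.Fi22Loc.Rec
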