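/-
Lines give hexads: the five members of a line multiply to the base, and collinearity is symmetric.
-/
import Cfsg.Agent.Lib.Fi22Loc.Rec.Chart

set_option autoImplicit false
set_option linter.unusedSectionVars false

namespace CfsgLib.Fi22Loc.Rec

open CfsgFi22Rec

open Matrix Cfsg CfsgLib CfsgLib.UnitaryTransvection CfsgLib.UnitarySimple CfsgThreeTrans.M22

variable {G : Type*} [Group G]
variable {F : Type} [Field F] [Fintype F] [DecidableEq F]
variable {D : Set G} {hF : Fintype.card F = 2 ^ 2}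

local notation "h" => Cfsg.hermForm 6 F 2
local notation "π" => QuotientGroup.mk' (Subgroup.center (Cfsg.SU 6 F 2))

theorem Local.mem_one (L : Local D hF) {x : G} (hx : x ∈ D) : x * x = 1 ∧ x ≠ 1 := by
  obtain ⟨A⟩ := L.chart x hx
  exact ⟨A.hsq, A.hne⟩

/-- The five members of a line multiply to the base. -/
theorem five (L : Local D hF) {a x y : G} (ha : a ∈ D) (hx : x ∈ D) (hy : y ∈ D) (xa : x ≠ a) (ya : y ≠ a)
    (xy : x ≠ y) (cax : Commute a x) (cay : Commute a y) (cxy : Commute x y) :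
    ∃ p q r, Col D a x y p ∧ Col D a x y q ∧ Col D a x y r ∧ [a, x, y, p, q, r].Nodup ∧
      (∀ w ∈ [a, x, y, p, q, r], ∀ w' ∈ [a, x, y, p, q, r], Commute w w') ∧ x * y * p * q * r = a := by
  obtain ⟨A⟩ := L.chart a ha
  obtain ⟨u, rfl⟩ := A.pnt_surj hx xa cax
  obtain ⟨v, rfl⟩ := A.pnt_surj hy ya cay
  have huv := (A.pnt_comm_iff u v).mp cxy
  have hne : π (tu hF u.1) ≠ π (tu hF v.1) := fun e =>
    xy ((A.pnt_eq_iff u v).mpr ((mk_eq_iff hF u.2.2 u.2.1 v.2.2).mp e))
  obtain ⟨p, q, r, hm, hpq, hpr, hqr, hnd, hprod⟩ := line_exists hF u.2.2 v.2.2 huv u.2.1 v.2.1 hne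
  let P : Iso F := ⟨p, (hm p (by simp)).1, (hm p (by simp)).2.1⟩
  let Q : Iso F := ⟨q, (hm q (by simp)).1, (hm q (by simp)).2.1⟩
  let R : Iso F := ⟨r, (hm r (by simp)).1, (hm r (by simp)).2.1⟩
  have hline := line_only hF u.2.2 v.2.2 (hm p (by simp)).2.1 (hm q (by simp)).2.1 (hm r (by simp)).2.1 huv
    (hm p (by simp)).2.2.1 (hm q (by simp)).2.2.1 (hm r (by simp)).2.2.1
    (hm p (by simp)).2.2.2 (hm q (by simp)).2.2.2 (hm r (by simp)).2.2.2 hpq hpr hqr u.2.1 hne v.2.1
    (hm p (by simp)).1 (hm q (by simp)).1 (hm r (by simp)).1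
    (by simp only [List.nodup_cons, List.mem_cons, List.not_mem_nil, or_false, not_or] at hnd
        exact hnd.2.2.1.1)
    (by simp only [List.nodup_cons, List.mem_cons, List.not_mem_nil, or_false, not_or] at hnd
        exact hnd.2.2.1.2)
    (by simp only [List.nodup_cons, List.mem_cons, List.not_mem_nil, or_false, not_or] at hnd
        exact hnd.2.2.2.1) (by rw [hprod, map_one])
  have hlist : ∀ w ∈ [u, v, P, Q, R], ∀ w' ∈ [u, v, P, Q, R], h w.1 w'.1 = 0 := by
    intro w hw w' hw'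
    simp only [List.mem_cons, List.not_mem_nil, or_false] at hw hw'
    rcases hw with e | e | e | e | e <;> rcases hw' with e' | e' | e' | e' | e' <;> rw [e, e'] <;>
      first
      | exact u.2.2 | exact v.2.2 | exact P.2.2 | exact Q.2.2 | exact R.2.2
      | exact huv | exact (hm p (by simp)).2.2.1 | exact (hm q (by simp)).2.2.1 | exact (hm r (by simp)).2.2.1
      | exact (hm p (by simp)).2.2.2 | exact (hm q (by simp)).2.2.2 | exact (hm r (by simp)).2.2.2
      | exact hpq | exact hpr | exact hqr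
      | exact swap_zero hF huv
      | exact swap_zero hF (hm p (by simp)).2.2.1 | exact swap_zero hF (hm q (by simp)).2.2.1
      | exact swap_zero hF (hm r (by simp)).2.2.1 | exact swap_zero hF (hm p (by simp)).2.2.2
      | exact swap_zero hF (hm q (by simp)).2.2.2 | exact swap_zero hF (hm r (by simp)).2.2.2
      | exact swap_zero hF hpq | exact swap_zero hF hpr | exact swap_zero hF hqr
  have hcol : ∀ W ∈ [P, Q, R], Col D a (A.pnt u) (A.pnt v) (A.pnt W) := by
    intro W hW
    refine (A.col_iff xy huv (hlist u (by simp) W (by simp at hW ⊢; tauto))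
      (hlist v (by simp) W (by simp at hW ⊢; tauto))).mpr (hline W.1 ?_)
    simp only [List.mem_cons, List.not_mem_nil, or_false] at hW ⊢
    rcases hW with rfl | rfl | rfl <;> simp [P, Q, R]
  have nd5 : [A.pnt u, A.pnt v, A.pnt P, A.pnt Q, A.pnt R].Nodup := by
    have key : ∀ s t : Iso F, π (tu hF s.1) ≠ π (tu hF t.1) → A.pnt s ≠ A.pnt t := fun s t k e =>
      k ((mk_eq_iff hF s.2.2 s.2.1 t.2.2).mpr ((A.pnt_eq_iff s t).mp e))
    simp only [List.nodup_cons, List.mem_cons, List.not_mem_nil, or_false, not_or, List.nodup_nil, and_true,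
      not_false_iff] at hnd ⊢
    obtain ⟨⟨a1, a2, a3, a4⟩, ⟨b1, b2, b3⟩, ⟨c1, c2⟩, d1⟩ := hnd
    exact ⟨⟨key u v a1, key u P a2, key u Q a3, key u R a4⟩, ⟨key v P b1, key v Q b2, key v R b3⟩,
      ⟨key P Q c1, key P R c2⟩, key Q R d1⟩
  have nd6 : [a, A.pnt u, A.pnt v, A.pnt P, A.pnt Q, A.pnt R].Nodup := by
    refine List.nodup_cons.mpr ⟨?_, nd5⟩
    simp only [List.mem_cons, List.not_mem_nil, or_false, not_or]
    exact ⟨xa.symm, ya.symm, (A.pnt_ne P).symm, (A.pnt_ne Q).symm, (A.pnt_ne R).symm⟩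
  have c5 : ∀ w ∈ [A.pnt u, A.pnt v, A.pnt P, A.pnt Q, A.pnt R],
      ∀ w' ∈ [A.pnt u, A.pnt v, A.pnt P, A.pnt Q, A.pnt R], Commute w w' := by
    intro w hw w' hw'
    obtain ⟨W, hW, rfl⟩ : ∃ W ∈ [u, v, P, Q, R], A.pnt W = w :=
      List.mem_map.mp (show w ∈ [u, v, P, Q, R].map A.pnt from hw)
    obtain ⟨W', hW', rfl⟩ : ∃ W ∈ [u, v, P, Q, R], A.pnt W = w' :=
      List.mem_map.mp (show w' ∈ [u, v, P, Q, R].map A.pnt from hw')
    exact (A.pnt_comm_iff W W').mpr (hlist W hW W' hW')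
  have c6 : ∀ w ∈ [a, A.pnt u, A.pnt v, A.pnt P, A.pnt Q, A.pnt R],
      ∀ w' ∈ [a, A.pnt u, A.pnt v, A.pnt P, A.pnt Q, A.pnt R], Commute w w' := by
    have ca : ∀ w ∈ [A.pnt u, A.pnt v, A.pnt P, A.pnt Q, A.pnt R], Commute a w := by
      intro w hw
      obtain ⟨W, -, rfl⟩ : ∃ W ∈ [u, v, P, Q, R], A.pnt W = w :=
        List.mem_map.mp (show w ∈ [u, v, P, Q, R].map A.pnt from hw)
      exact A.pnt_comm W
    intro w hw w' hw'
    rcases List.mem_cons.mp hw with rfl | hw <;> rcases List.mem_cons.mp hw' with rfl | hw'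
    exacts [Commute.refl _, ca _ hw', (ca _ hw).symm, c5 _ hw _ hw']
  refine ⟨A.pnt P, A.pnt Q, A.pnt R, hcol P (by simp), hcol Q (by simp), hcol R (by simp), nd6, c6, ?_⟩
  rcases A.prod_cases (l := [u, v, P, Q, R]) (by simp [P, Q, R, hprod, ← mul_assoc]) with k | k
  swap
  · simpa [mul_assoc] using k
  exfalso
  -- in the chart at the first point the line is `a` and the other four
  set i := A.pnt u with hi
  obtain ⟨B⟩ := L.chart i hx
  have nd := nd6
  simp only [List.nodup_cons, List.mem_cons, List.not_mem_nil, or_false, not_or, List.nodup_nil, and_true,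
    not_false_iff] at nd
  obtain ⟨⟨a1, a2, a3, a4, a5⟩, ⟨b1, b2, b3, b4⟩, ⟨c1, c2, c3⟩, ⟨d1, d2⟩, e1⟩ := nd
  have s1 := (hcol P (by simp)).swap ha (Ne.symm b2)
  have s2 := (hcol Q (by simp)).swap ha (Ne.symm b3)
  have s3 := (hcol R (by simp)).swap ha (Ne.symm b4)
  obtain ⟨wa, wv, wP, ea, ev, eP, -, hav, hP⟩ := B.col_span s1
  obtain ⟨wQ, eQ⟩ := B.pnt_surj s2.hz s2.za s2.caz
  obtain ⟨wR, eR⟩ := B.pnt_surj s3.hz s3.za s3.caz
  have bne : B.pnt wa ≠ B.pnt wv := by rw [ea, ev]; exact a2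
  have sp : ∀ W : Iso F, Col D i a (A.pnt v) (B.pnt W) → ∃ c d : F, W.1 = c • wa.1 + d • wv.1 := by
    intro W hW
    replace hW : Col D i (B.pnt wa) (B.pnt wv) (B.pnt W) := by rw [ea, ev]; exact hW
    exact (B.col_iff bne hav ((B.pnt_comm_iff _ _).mp hW.cxz) ((B.pnt_comm_iff _ _).mp hW.cyz)).mp hW
  obtain ⟨p', q', r', hm', hpq', hpr', hqr', hnd', hprod'⟩ := line_exists hF wa.2.2 wv.2.2 hav wa.2.1 wv.2.1
    (fun e => bne ((B.pnt_eq_iff wa wv).mpr ((mk_eq_iff hF wa.2.2 wa.2.1 wv.2.2).mp e)))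
  let P' : Iso F := ⟨p', (hm' p' (by simp)).1, (hm' p' (by simp)).2.1⟩
  let Q' : Iso F := ⟨q', (hm' q' (by simp)).1, (hm' q' (by simp)).2.1⟩
  let R' : Iso F := ⟨r', (hm' r' (by simp)).1, (hm' r' (by simp)).2.1⟩
  have hone : π (tu hF wa.1 * tu hF wv.1 * tu hF wP.1 * tu hF wQ.1 * tu hF wR.1) = 1 := by
    have hl3 := line_only hF wa.2.2 wv.2.2 (hm' p' (by simp)).2.1 (hm' q' (by simp)).2.1 (hm' r' (by simp)).2.1 hav
      (hm' p' (by simp)).2.2.1 (hm' q' (by simp)).2.2.1 (hm' r' (by simp)).2.2.1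
      (hm' p' (by simp)).2.2.2 (hm' q' (by simp)).2.2.2 (hm' r' (by simp)).2.2.2 hpq' hpr' hqr' wa.2.1
      (by simp only [List.nodup_cons, List.mem_cons, List.not_mem_nil, or_false, not_or] at hnd'
          exact hnd'.1.1)
      wv.2.1 (hm' p' (by simp)).1 (hm' q' (by simp)).1 (hm' r' (by simp)).1
      (by simp only [List.nodup_cons, List.mem_cons, List.not_mem_nil, or_false, not_or] at hnd'
          exact hnd'.2.2.1.1)
      (by simp only [List.nodup_cons, List.mem_cons, List.not_mem_nil, or_false, not_or] at hnd'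
          exact hnd'.2.2.1.2)
      (by simp only [List.nodup_cons, List.mem_cons, List.not_mem_nil, or_false, not_or] at hnd'
          exact hnd'.2.2.2.1) (by rw [hprod', map_one])
    set L3 := [π (tu hF p'), π (tu hF q'), π (tu hF r')] with hL3
    have inL : ∀ W : Iso F, Col D i a (A.pnt v) (B.pnt W) → B.pnt W ≠ a → B.pnt W ≠ A.pnt v →
        π (tu hF W.1) ∈ L3 := fun W hW n1 n2 =>
      line_unique hF wa.2.2 wv.2.2 hav hnd' (hm' p' (by simp)).1 (hm' q' (by simp)).1 (hm' r' (by simp)).1 hl3 W.2.1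
        (sp W hW) (fun e => n1 (ea ▸ (B.pnt_eq_iff W wa).mpr ((mk_eq_iff hF W.2.2 W.2.1 wa.2.2).mp e)))
        (fun e => n2 (ev ▸ (B.pnt_eq_iff W wv).mpr ((mk_eq_iff hF W.2.2 W.2.1 wv.2.2).mp e)))
    have mP := inL wP (eP ▸ s1) (fun e => a3 (eP ▸ e).symm) (fun e => c1 (eP ▸ e).symm)
    have mQ := inL wQ (eQ ▸ s2) (fun e => a4 (eQ ▸ e).symm) (fun e => c2 (eQ ▸ e).symm)
    have mR := inL wR (eR ▸ s3) (fun e => a5 (eR ▸ e).symm) (fun e => c3 (eR ▸ e).symm)
    have bd : ∀ s t : Iso F, B.pnt s ≠ B.pnt t → π (tu hF s.1) ≠ π (tu hF t.1) := fun s t q e =>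
      q ((B.pnt_eq_iff s t).mpr ((mk_eq_iff hF s.2.2 s.2.1 t.2.2).mp e))
    have nPQ := bd wP wQ (by rw [eP, eQ]; exact d1)
    have nPR := bd wP wR (by rw [eP, eR]; exact d2)
    have nQR := bd wQ wR (by rw [eQ, eR]; exact e1)
    have hc := fun {s t : Fin 6 → F} (a' : Cfsg.hermForm 6 F 2 s s = 0) (b' : Cfsg.hermForm 6 F 2 t t = 0)
        (c' : Cfsg.hermForm 6 F 2 s t = 0) => (tu_commute hF a' b' c').map π
    have cpq := hc (hm' p' (by simp)).2.1 (hm' q' (by simp)).2.1 hpq'
    have cpr := hc (hm' p' (by simp)).2.1 (hm' r' (by simp)).2.1 hpr'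
    have cqr := hc (hm' q' (by simp)).2.1 (hm' r' (by simp)).2.1 hqr'
    have e3 : π (tu hF wP.1) * π (tu hF wQ.1) * π (tu hF wR.1) =
        π (tu hF p') * π (tu hF q') * π (tu hF r') := by
      have hperm : List.Perm [π (tu hF wP.1), π (tu hF wQ.1), π (tu hF wR.1)] L3 := by
        refine (List.subperm_of_subset ?_ ?_).perm_of_length_le (by simp [hL3])
        · simp only [List.nodup_cons, List.mem_cons, List.not_mem_nil, or_false, not_or, List.nodup_nil, and_true,
            not_false_iff]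
          exact ⟨⟨nPQ, nPR⟩, nQR⟩
        · intro w hw
          simp only [List.mem_cons, List.not_mem_nil, or_false] at hw
          rcases hw with rfl | rfl | rfl
          exacts [mP, mQ, mR]
      have hpw : [π (tu hF wP.1), π (tu hF wQ.1), π (tu hF wR.1)].Pairwise Commute := by
        refine List.pairwise_of_forall_mem_list fun s hs t ht => ?_
        have hs' := hperm.mem_iff.mp hs
        have ht' := hperm.mem_iff.mp ht
        simp only [hL3, List.mem_cons, List.not_mem_nil, or_false] at hs' ht'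
        rcases hs' with rfl | rfl | rfl <;> rcases ht' with rfl | rfl | rfl
        exacts [Commute.refl _, cpq, cpr, cpq.symm, Commute.refl _, cqr, cpr.symm, cqr.symm, Commute.refl _]
      simpa [hL3, mul_assoc] using hperm.prod_eq' hpw
    simp only [map_mul] at hprod' ⊢
    rw [mul_assoc _ (π (tu hF wP.1)), mul_assoc _ (π (tu hF wP.1) * π (tu hF wQ.1)), e3,
      ← mul_assoc _ (π (tu hF p') * π (tu hF q')), ← mul_assoc _ (π (tu hF p'))]
    have := congrArg π hprod'
    simpa only [map_mul, map_one] using this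
  rcases B.prod_cases (l := [wa, wv, wP, wQ, wR]) (by simpa [← mul_assoc] using hone) with q | q
  all_goals
    simp only [List.map_cons, List.map_nil, List.prod_cons, List.prod_nil, mul_one, ea, ev, eP, eQ, eR] at q
    simp only [List.map_cons, List.map_nil, List.prod_cons, List.prod_nil, mul_one] at k
    rw [show A.pnt v * (A.pnt P * (A.pnt Q * A.pnt R)) = i from ?_] at q
  · exact a1 (by rw [← mul_one a, ← A.pnt_sq u, ← mul_assoc, q, one_mul])
  · rw [← A.pnt_sq u] at k; exact mul_left_cancel k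
  · exact (L.mem_one ha).2 (mul_eq_right.mp q)
  · rw [← A.pnt_sq u] at k; exact mul_left_cancel k

/-- Collinearity is symmetric: the base may be exchanged with a third point. -/
theorem Col.perm (L : Local D hF) {a x y z : G} (ha : a ∈ D) (hc : Col D a x y z) (zx : z ≠ x) (zy : z ≠ y) :
    Col D x y z a := by
  obtain ⟨p, q, r, cp, cq, cr, hnd, hcom, hprod⟩ := five L ha hc.hx hc.hy hc.xa hc.ya hc.xy hc.cax hc.cay hc.cxy
  obtain ⟨A⟩ := L.chart a ha
  have hz := A.col_unique cp cq cr hc (List.nodup_cons.mp hnd).2 zx zy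
  obtain ⟨B⟩ := L.chart x hc.hx
  have mem : ∀ w ∈ [a, x, y, p, q, r], w ∈ D := by
    intro w hw
    simp only [List.mem_cons, List.not_mem_nil, or_false] at hw
    rcases hw with rfl | rfl | rfl | rfl | rfl | rfl
    exacts [ha, hc.hx, hc.hy, cp.hz, cq.hz, cr.hz]
  have five' : ∀ s t, List.Perm [a, x, y, p, q, r] [x, y, z, a, s, t] → Col D x y z a := by
    intro s t hperm
    have nd := hperm.nodup_iff.mp hnd
    have hsub : ∀ w ∈ [y, z, a, s, t], w ∈ [a, x, y, p, q, r] := fun w hw =>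
      hperm.mem_iff.mpr (List.mem_cons_of_mem _ hw)
    refine (B.col_of_prod (fun w hw => ⟨mem w (hsub w hw), fun e => (List.nodup_cons.mp nd).1 (e ▸ hw),
      hcom x (by simp) w (hsub w hw)⟩) (fun w hw w' hw' => hcom w (hsub w hw) w' (hsub w' hw'))
      (List.nodup_cons.mp nd).2 (Or.inr ?_)).1
    have hp : [a, x, y, p, q, r].prod = [x, y, z, a, s, t].prod :=
      hperm.prod_eq' (List.pairwise_of_forall_mem_list fun u hu v hv => hcom u hu v hv)
    simp only [List.prod_cons, List.prod_nil, mul_one] at hp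
    rw [show x * (y * (p * (q * r))) = a by simpa [mul_assoc] using hprod, A.hsq] at hp
    calc y * z * a * s * t = x * x * (y * (z * (a * (s * t)))) := by rw [B.hsq, one_mul]; simp only [mul_assoc]
      _ = x * (x * (y * (z * (a * (s * t))))) := mul_assoc _ _ _
      _ = x := by rw [← hp, mul_one]
  have base : List.Perm [a, x, y, p, q, r] [x, y, p, a, q, r] :=
    (List.Perm.swap x a _).trans (((List.Perm.swap y a _).trans ((List.Perm.swap p a _).cons y)).cons x)
  simp only [List.mem_cons, List.not_mem_nil, or_false] at hz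
  rcases hz with e | e | e <;> rw [e] at five' ⊢
  · exact five' q r base
  · refine five' p r (base.trans (((?_ : List.Perm [p, a, q, r] [q, a, p, r]).cons y).cons x))
    exact ((List.Perm.swap q a [r]).cons p).trans ((List.Perm.swap q p _).trans ((List.Perm.swap a p [r]).cons q))
  · refine five' p q (base.trans (((?_ : List.Perm [p, a, q, r] [r, a, p, q]).cons y).cons x))
    exact (((List.Perm.swap r q []).cons a).cons p).trans (((List.Perm.swap r a [q]).cons p).trans
      ((List.Perm.swap r p _).trans ((List.Perm.swap a p [q]).cons r)))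

/-- Three members commuting with two non-commuting members are never collinear. -/
theorem no_col (L : Local D hF) {a b x y z : G} (ha : a ∈ D) (hb : b ∈ D) (hc : Col D a x y z) (zx : z ≠ x)
    (zy : z ≠ y) (bx : Commute b x) (by' : Commute b y) (bz : Commute b z) : Commute a b :=
  (hc.perm L ha zx zy).perp b hb bx.symm by'.symm bz.symm

/-- Six members with product one: any five are collinear from the sixth. -/
theorem six_col (L : Local D hF) {x y p q r s : G} (hm : ∀ w ∈ [x, y, p, q, r, s], w ∈ D)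
    (hc : ∀ w ∈ [x, y, p, q, r, s], ∀ w' ∈ [x, y, p, q, r, s], Commute w w') (hnd : [x, y, p, q, r, s].Nodup)
    (hp : x * y * p * q * r * s = 1) : Col D x y p q ∧ Col D x y p r ∧ Col D x y p s := by
  obtain ⟨B⟩ := L.chart x (hm x (by simp))
  refine B.col_of_prod (fun w hw => ⟨hm w (List.mem_cons_of_mem _ hw), fun e => (List.nodup_cons.mp hnd).1 (e ▸ hw),
    hc x (by simp) w (List.mem_cons_of_mem _ hw)⟩) (fun w hw w' hw' =>
    hc w (List.mem_cons_of_mem _ hw) w' (List.mem_cons_of_mem _ hw')) (List.nodup_cons.mp hnd).2 (Or.inr ?_)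
  calc y * p * q * r * s = x * x * (y * p * q * r * s) := by rw [B.hsq, one_mul]
    _ = x * (x * y * p * q * r * s) := by simp only [mul_assoc]
    _ = x := by rw [hp, mul_one]

/-- Two sextets with product one sharing three members coincide. -/
theorem six_unique (L : Local D hF) {x y p q r s q' r' s' : G} (hm : ∀ w ∈ [x, y, p, q, r, s], w ∈ D)
    (hc : ∀ w ∈ [x, y, p, q, r, s], ∀ w' ∈ [x, y, p, q, r, s], Commute w w') (hnd : [x, y, p, q, r, s].Nodup)
    (hp : x * y * p * q * r * s = 1) (hm' : ∀ w ∈ [x, y, p, q', r', s'], w ∈ D)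
    (hc' : ∀ w ∈ [x, y, p, q', r', s'], ∀ w' ∈ [x, y, p, q', r', s'], Commute w w')
    (hnd' : [x, y, p, q', r', s'].Nodup) (hp' : x * y * p * q' * r' * s' = 1) : q' ∈ [q, r, s] := by
  obtain ⟨B⟩ := L.chart x (hm x (by simp))
  obtain ⟨c1, c2, c3⟩ := six_col L hm hc hnd hp
  obtain ⟨d1, -, -⟩ := six_col L hm' hc' hnd' hp'
  have nd := (List.nodup_cons.mp hnd').2
  simp only [List.nodup_cons, List.mem_cons, List.not_mem_nil, or_false, not_or] at nd
  exact B.col_unique c1 c2 c3 d1 (List.nodup_cons.mp hnd).2 (fun e => nd.1.2.1 e.symm) (fun e => nd.2.1.1 e.symm)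

end CfsgLib.Fi22Loc.Rec
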