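/-
The members of a totally isotropic plane in coordinates, and the members acting on it.
-/
import Cfsg.Agent.Lib.Fi22Loc.Rec.Lines

set_option autoImplicit false
set_option linter.unusedSectionVars false

namespace CfsgLib.Fi22Loc.Rec

open CfsgFi22Rec

open Matrix Cfsg CfsgLib CfsgLib.UnitaryTransvection CfsgLib.UnitarySimple CfsgThreeTrans.M22

variable {G : Type*} [Group G]
variable {F : Type} [Field F] [Fintype F] [DecidableEq F]

local notation "h" => Cfsg.hermForm 6 F 2
local notation "π" => QuotientGroup.mk' (Subgroup.center (Cfsg.SU 6 F 2))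

/-- A basis of a totally isotropic plane. -/
structure Frame3 (hF : Fintype.card F = 2 ^ 2) where
  X : Fin 6 → F
  Y : Fin 6 → F
  Z : Fin 6 → F
  hX : h X X = 0
  hY : h Y Y = 0
  hZ : h Z Z = 0
  hXY : h X Y = 0
  hXZ : h X Z = 0
  hYZ : h Y Z = 0
  ind : LinearIndependent F ![X, Y, Z]

variable {D : Set G} {hF : Fintype.card F = 2 ^ 2} {a : G}

namespace Frame3

variable (fr : Frame3 hF)

/-- The vector with given coordinates. -/
def vec (b : Fin 3 → F) : Fin 6 → F := b 0 • fr.X + b 1 • fr.Y + b 2 • fr.Z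

theorem vec_orth (b b' : Fin 3 → F) : h (fr.vec b) (fr.vec b') = 0 := by
  simp only [vec, h_add_left, h_add_right hF, h_smul_left, h_smul_right hF, fr.hX, fr.hY, fr.hZ, fr.hXY, fr.hXZ,
    fr.hYZ, swap_zero hF fr.hXY, swap_zero hF fr.hXZ, swap_zero hF fr.hYZ, mul_zero, add_zero]

theorem vec_inj {b b' : Fin 3 → F} (e : fr.vec b = fr.vec b') : b = b' := by
  have := (li_three hF).mp fr.ind (b 0 - b' 0) (b 1 - b' 1) (b 2 - b' 2) (by
    have := sub_eq_zero.mpr e
    simp only [vec] at this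
    rw [← this]
    module)
  funext i
  fin_cases i
  exacts [sub_eq_zero.mp this.1, sub_eq_zero.mp this.2.1, sub_eq_zero.mp this.2.2]

theorem vec_ne {b : Fin 3 → F} (hb : b ≠ 0) : fr.vec b ≠ 0 := fun e => hb (fr.vec_inj (by rw [e]; simp [vec]))

theorem vec_smul (c : F) (b : Fin 3 → F) : fr.vec (c • b) = c • fr.vec b := by
  simp [vec, smul_add, smul_smul]

theorem vec_add (b b' : Fin 3 → F) : fr.vec (b + b') = fr.vec b + fr.vec b' := by
  simp only [vec, Pi.add_apply, add_smul]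
  abel

theorem X_ne : fr.X ≠ 0 := fun e => by
  have := fr.ind.ne_zero 0
  exact this e

/-- The point with given coordinates. -/
noncomputable def ipt (b : Fin 3 → F) : Iso F :=
  if hb : b = 0 then ⟨fr.X, fr.X_ne, fr.hX⟩ else ⟨fr.vec b, fr.vec_ne hb, fr.vec_orth b b⟩

theorem ipt_val {b : Fin 3 → F} (hb : b ≠ 0) : (fr.ipt b).1 = fr.vec b := by rw [ipt, dif_neg hb]

theorem ipt_orth (b b' : Fin 3 → F) : h (fr.ipt b).1 (fr.ipt b').1 = 0 := by
  have key : ∀ b, ∃ d : Fin 3 → F, (fr.ipt b).1 = fr.vec d := fun b => by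
    by_cases hb : b = 0
    · exact ⟨![1, 0, 0], by rw [ipt, dif_pos hb]; simp [vec]⟩
    · exact ⟨b, fr.ipt_val hb⟩
  obtain ⟨d, hd⟩ := key b
  obtain ⟨d', hd'⟩ := key b'
  rw [hd, hd']
  exact fr.vec_orth d d'

end Frame3

/-- The member with given coordinates. -/
noncomputable def Chart.pm (A : Chart D hF a) (fr : Frame3 hF) (b : Fin 3 → F) : G := A.pnt (fr.ipt b)

namespace Chart

variable (A : Chart D hF a) (fr : Frame3 hF)
include A

theorem pm_mem (b : Fin 3 → F) : A.pm fr b ∈ D := A.pnt_mem _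

theorem pm_ne (b : Fin 3 → F) : A.pm fr b ≠ a := A.pnt_ne _

theorem pm_comm_base (b : Fin 3 → F) : Commute a (A.pm fr b) := A.pnt_comm _

theorem pm_sq (b : Fin 3 → F) : A.pm fr b * A.pm fr b = 1 := A.pnt_sq _

theorem pm_comm (b b' : Fin 3 → F) : Commute (A.pm fr b) (A.pm fr b') :=
  (A.pnt_comm_iff _ _).mpr (fr.ipt_orth b b')

theorem pm_eq_iff {b b' : Fin 3 → F} (hb : b ≠ 0) (hb' : b' ≠ 0) :
    A.pm fr b = A.pm fr b' ↔ ∃ c : F, b = c • b' := by
  rw [Chart.pm, Chart.pm, A.pnt_eq_iff, fr.ipt_val hb, fr.ipt_val hb']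
  exact ⟨fun ⟨c, e⟩ => ⟨c, fr.vec_inj (by rw [fr.vec_smul]; exact e)⟩, fun ⟨c, e⟩ => ⟨c, by rw [e, fr.vec_smul]⟩⟩

/-- Three members spanning a plane in coordinates. -/
theorem pm_col {b b' b'' : Fin 3 → F} (hb : b ≠ 0) (hb' : b' ≠ 0) (hb'' : b'' ≠ 0)
    (hne : A.pm fr b ≠ A.pm fr b') :
    Col D a (A.pm fr b) (A.pm fr b') (A.pm fr b'') ↔ ∃ c c' : F, b'' = c • b + c' • b' := by
  rw [Chart.pm, Chart.pm, Chart.pm, A.col_iff hne (fr.ipt_orth b b') (fr.ipt_orth b b'') (fr.ipt_orth b' b''),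
    fr.ipt_val hb, fr.ipt_val hb', fr.ipt_val hb'']
  exact ⟨fun ⟨c, c', e⟩ => ⟨c, c', fr.vec_inj (by rw [fr.vec_add, fr.vec_smul, fr.vec_smul]; exact e)⟩,
    fun ⟨c, c', e⟩ => ⟨c, c', by rw [e, fr.vec_add, fr.vec_smul, fr.vec_smul]⟩⟩

/-- A product of members of the plane is determined, up to the base, by the sum of the squared coordinates. -/
theorem pm_prod (l : List (Fin 3 → F)) (hl : ∀ b ∈ l, b ≠ 0)
    (hs : ∀ i j : Fin 3, (l.map fun b => b i * frob hF (b j)).sum = 0) :
    (l.map (A.pm fr)).prod = 1 ∨ (l.map (A.pm fr)).prod = a := by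
  have e1 : (l.map (A.pm fr)) = (l.map fr.ipt).map A.pnt := by rw [List.map_map]; rfl
  rw [e1]
  refine A.prod_cases ?_
  rw [List.map_map, show (l.map ((fun u : Iso F => tu hF u.1) ∘ fr.ipt)) = l.map (fun b => tu hF (fr.vec b)) from
    List.map_congr_left fun b hb => by simp only [Function.comp_apply, fr.ipt_val (hl b hb)]]
  rw [show (l.map fun b => tu hF (fr.vec b)).prod = 1 from ?_, map_one]
  refine su_ext fun v => ?_
  rw [mat_one, one_mulVec]
  set S : List (Fin 3 → F) → Fin 6 → F := fun m => (m.map fun b => h v (fr.vec b) • fr.vec b).sum with hS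
  have key : ∀ m : List (Fin 3 → F),
      mat (m.map fun b => tu hF (fr.vec b)).prod *ᵥ v = v + S m ∧ ∀ b, h (S m) (fr.vec b) = 0 := by
    intro m
    induction m with
    | nil => exact ⟨by simp [hS, mat_one], fun b => h_zero_left hF _⟩
    | cons b m ih =>
      obtain ⟨e, o⟩ := ih
      refine ⟨?_, fun c => ?_⟩
      · rw [List.map_cons, List.prod_cons, mat_mul, ← mulVec_mulVec, e, tu_mulVec hF (fr.vec_orth b b), h_add_left, o,
          add_zero]
        simp only [hS, List.map_cons, List.sum_cons]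
        abel
      · show h (((b :: m).map fun b => h v (fr.vec b) • fr.vec b).sum) (fr.vec c) = 0
        rw [List.map_cons, List.sum_cons, h_add_left, h_smul_left, fr.vec_orth, mul_zero, zero_add]
        exact o c
  rw [(key l).1]
  set p : Fin 3 → F := ![h v fr.X, h v fr.Y, h v fr.Z] with hp
  have hv : ∀ b : Fin 3 → F, h v (fr.vec b) = ∑ j, frob hF (b j) * p j := fun b => by
    simp [Frame3.vec, hp, Fin.sum_univ_three, h_add_right hF, h_smul_right hF]
  have hsum : ∀ m : List (Fin 3 → F), S m = fr.vec fun i => ∑ j, (m.map fun b => b i * frob hF (b j)).sum * p j := by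
    intro m
    induction m with
    | nil => simp [hS, Frame3.vec]
    | cons b m ih =>
      show (((b :: m).map fun b => h v (fr.vec b) • fr.vec b).sum) = _
      rw [List.map_cons, List.sum_cons, hv, ← fr.vec_smul]
      rw [show (m.map fun b => h v (fr.vec b) • fr.vec b).sum = _ from ih, ← fr.vec_add]
      congr 1
      funext i
      simp only [Pi.add_apply, Pi.smul_apply, smul_eq_mul, List.map_cons, List.sum_cons, add_mul, Finset.sum_add_distrib,
        Finset.sum_mul]
      refine congrArg (· + _) (Finset.sum_congr rfl fun j _ => ?_)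
      ring
  rw [hsum]
  simp [hs, Frame3.vec]

/-- A pair of members inducing a given transvection on the plane. -/
theorem exists_move (L : Local D hF) (n : Fin 3 → F) (φ : Fin 3 → F) (hφ : φ ≠ 0)
    (hn : φ 0 * n 0 + φ 1 * n 1 + φ 2 * n 2 = 0) :
    ∃ m : G, m ∈ LC a ∧ m * m = 1 ∧ ∀ (b b' : Fin 3 → F) (c : F), b ≠ 0 → b' ≠ 0 →
      b + (φ 0 * b 0 + φ 1 * b 1 + φ 2 * b 2) • n = c • b' → m * A.pm fr b * m = A.pm fr b' := by
  obtain ⟨x, y, hx, hy, hx0, hy0, hxy, hmove⟩ := exists_pair_move hF fr.hX fr.hY fr.hZ fr.hXY fr.hXZ fr.hYZ fr.ind n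
    (fun i => frob hF (φ i)) (by
      have := congrArg (frob hF) hn
      rw [map_zero] at this
      rw [Fin.sum_univ_three, ← this]
      simp only [map_add, map_mul]
      ring)
    (fun e => hφ (funext fun i => by
      have := congrArg (frob hF) (congrFun e i)
      simpa [frob_frob] using this))
  set x' := A.pnt' ⟨x, hx0, hx⟩ with hx'
  set y' := A.pnt' ⟨y, hy0, hy⟩ with hy'
  have c1 : Commute (A.pnt ⟨x, hx0, hx⟩) (A.pnt ⟨y, hy0, hy⟩) := (A.pnt_comm_iff _ _).mpr hxy
  refine ⟨((y' * x' : ↥(LC a)) : G), (y' * x').2, ?_,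
    fun b b' c hb hb' e => ?_⟩
  · show A.pnt _ * A.pnt _ * (A.pnt _ * A.pnt _) = 1
    rw [← pow_two, c1.symm.mul_pow, pow_two, pow_two, A.pnt_sq, A.pnt_sq, one_mul]
  have hinv : ((y' * x' : ↥(LC a)) : G)⁻¹ =
      ((y' * x' : ↥(LC a)) : G) := by
    refine inv_eq_of_mul_eq_one_right ?_
    show A.pnt _ * A.pnt _ * (A.pnt _ * A.pnt _) = 1
    rw [← pow_two, c1.symm.mul_pow, pow_two, pow_two, A.pnt_sq, A.pnt_sq, one_mul]
  have := A.pnt_conj L (y' * x') (k := tu hF y * tu hF x)
    (by rw [map_mul, map_mul, hx', hy', A.ψ_pnt, A.ψ_pnt]) (fr.ipt b) (fr.ipt b') (c := c) ?_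
  · rwa [hinv] at this
  rw [fr.ipt_val hb, fr.ipt_val hb', mat_mul, ← mulVec_mulVec, tu_mulVec hF hx, tu_mulVec hF hy, ← fr.vec_smul, ← e,
    fr.vec_add, fr.vec_smul]
  have := hmove b
  simp only [frob_frob] at this
  rw [show fr.vec b = b 0 • fr.X + b 1 • fr.Y + b 2 • fr.Z from rfl]
  rw [this, show b 0 * φ 0 + b 1 * φ 1 + b 2 * φ 2 = φ 0 * b 0 + φ 1 * b 1 + φ 2 * b 2 by ring]
  rfl

end Chart

/-- The product of five members of a line is the base. -/
theorem line_prod (L : Local D hF) {x y p q r : G} (ha : a ∈ D) (hp : Col D a x y p) (hq : Col D a x y q)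
    (hr : Col D a x y r) (hnd : [x, y, p, q, r].Nodup) : x * y * p * q * r = a := by
  obtain ⟨p', q', r', cp, cq, cr, hnd', hcom, hprod⟩ := five L ha hp.hx hp.hy hp.xa hp.ya hp.xy hp.cax hp.cay hp.cxy
  obtain ⟨A⟩ := L.chart a ha
  have nd5 := (List.nodup_cons.mp hnd').2
  have nd := hnd
  simp only [List.nodup_cons, List.mem_cons, List.not_mem_nil, or_false, not_or, List.nodup_nil, and_true,
    not_false_iff] at nd
  have hperm : List.Perm [p, q, r] [p', q', r'] := by
    refine (List.subperm_of_subset ?_ ?_).perm_of_length_le (by simp)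
    · simp only [List.nodup_cons, List.mem_cons, List.not_mem_nil, or_false, not_or, List.nodup_nil, and_true,
        not_false_iff]
      exact ⟨nd.2.2.1, nd.2.2.2⟩
    · intro w hw
      simp only [List.mem_cons, List.not_mem_nil, or_false] at hw
      rcases hw with rfl | rfl | rfl
      · exact A.col_unique cp cq cr hp nd5 (Ne.symm nd.1.2.1) (Ne.symm nd.2.1.1)
      · exact A.col_unique cp cq cr hq nd5 (Ne.symm nd.1.2.2.1) (Ne.symm nd.2.1.2.1)
      · exact A.col_unique cp cq cr hr nd5 (Ne.symm nd.1.2.2.2) (Ne.symm nd.2.1.2.2)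
  have := (((hperm.cons y).cons x).prod_eq' (List.pairwise_of_forall_mem_list fun u hu v hv => hcom u ?_ v ?_))
  · simp only [List.prod_cons, List.prod_nil, mul_one] at this
    rw [← hprod]
    simpa [mul_assoc] using this
  · exact List.mem_cons_of_mem _ (((hperm.cons y).cons x).mem_iff.mp hu)
  · exact List.mem_cons_of_mem _ (((hperm.cons y).cons x).mem_iff.mp hv)

end CfsgLib.Fi22Loc.Rec
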