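/-
Sextets in a plane, square roots of products of two partners, and the step between triples of a plane.
-/
import Cfsg.Agent.Lib.Fi22Loc.Rec.Frame

set_option autoImplicit false
set_option linter.unusedSectionVars false

namespace CfsgLib.Fi22Loc.Rec

open CfsgFi22Rec

open Matrix Cfsg CfsgLib CfsgLib.UnitaryTransvection CfsgLib.UnitarySimple CfsgThreeTrans.M22

variable {G : Type*} [Group G]
variable {F : Type} [Field F] [Fintype F] [DecidableEq F]
variable {D : Set G} {hF : Fintype.card F = 2 ^ 2} {a : G}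

local notation "h" => Cfsg.hermForm 6 F 2
local notation "π" => QuotientGroup.mk' (Subgroup.center (Cfsg.SU 6 F 2))

include hF in
/-- The nonzero elements different from one. -/
theorem omega_facts {w : F} (w0 : w ≠ 0) (w1 : w ≠ 1) :
    w * w + w + 1 = 0 ∧ frob hF w = w * w ∧ w * w ≠ 0 ∧ w * w ≠ 1 ∧ w * w ≠ w ∧ w ^ 3 = 1 ∧
      ∀ z : F, z = 0 ∨ z = 1 ∨ z = w ∨ z = w * w := by
  have h3 := cube hF w0
  have hq : w * w + w + 1 = 0 := (mul_eq_zero.mp (show (w - 1) * (w * w + w + 1) = 0 by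
    linear_combination h3)).resolve_left (sub_ne_zero.mpr w1)
  refine ⟨hq, frob_eq hF w, mul_ne_zero w0 w0, fun e => w0 (by linear_combination hq - e - two_zero hF),
    fun e => w1 (mul_left_cancel₀ w0 (by rw [e, mul_one])), h3, fun z => ?_⟩
  by_cases hz : z = 0
  · exact Or.inl hz
  have hz3 := cube hF hz
  have : (z - 1) * (z - w) * (z - w * w) = 0 := by
    linear_combination hz3 - (z ^ 2) * hq + z * w * hq - (1 : F) * h3
  rcases mul_eq_zero.mp this with e | e
  · rcases mul_eq_zero.mp e with e | e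
    · exact Or.inr (Or.inl (sub_eq_zero.mp e))
    · exact Or.inr (Or.inr (Or.inl (sub_eq_zero.mp e)))
  · exact Or.inr (Or.inr (Or.inr (sub_eq_zero.mp e)))

namespace Chart

variable (A : Chart D hF a) (fr : Frame3 hF)
include A

/-- Vectors with different zero or ratio pattern give different members. -/
theorem pm_ne_of {b b' : Fin 3 → F} (hb : b ≠ 0) (hb' : b' ≠ 0) (hh : ∀ c : F, b ≠ c • b') :
    A.pm fr b ≠ A.pm fr b' := fun e => by
  obtain ⟨c, hc⟩ := (A.pm_eq_iff fr hb hb').mp e
  exact hh c hc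

end Chart

/-- The sextet of a frame and an element of order three. -/
def sext (w : F) : Fin 6 → Fin 3 → F :=
  ![![1, 0, 0], ![0, 1, 0], ![0, 0, 1], ![1, 1, 1], ![1, w, w * w], ![1, w * w, w]]

theorem sext_ne (w : F) (i : Fin 6) : sext w i ≠ 0 := by
  intro e
  fin_cases i <;> first | simpa [sext] using congrFun e 0 | simpa [sext] using congrFun e 1 |
    simpa [sext] using congrFun e 2

theorem ne_of_entries {b : Fin 3 → F} (k : Fin 3) (hk : b k ≠ 0) : b ≠ 0 := fun e => hk (by rw [e]; rfl)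

include hF in
theorem sext_sep {w : F} (w0 : w ≠ 0) (w1 : w ≠ 1) (i j : Fin 6) (hij : i ≠ j) (c : F) :
    sext w i ≠ c • sext w j := by
  obtain ⟨-, -, z0, z1, zw, -, -⟩ := omega_facts (hF := hF) w0 w1
  intro e
  have e0 := congrFun e 0
  have e1 := congrFun e 1
  have e2 := congrFun e 2
  fin_cases i <;> fin_cases j <;> first
    | exact absurd rfl hij
    | (simp only [sext, Fin.isValue, Pi.smul_apply, smul_eq_mul, Fin.zero_eta, Fin.mk_one, Fin.reduceFinMk,
        Matrix.cons_val, Matrix.cons_val_zero, Matrix.cons_val_one] at e0 e1 e2; grind)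

variable (L : Local D hF) (A : Chart D hF a) (fr : Frame3 hF)

/-- The six members of a sextet. -/
noncomputable def Chart.six (w : F) (i : Fin 6) : G := A.pm fr (sext w i)

/-- The product of the six. -/
noncomputable def Chart.sixProd (w : F) : G :=
  A.six fr w 0 * A.six fr w 1 * A.six fr w 2 * A.six fr w 3 * A.six fr w 4 * A.six fr w 5

theorem six_inj {w : F} (w0 : w ≠ 0) (w1 : w ≠ 1) : Function.Injective (A.six fr w) := fun i j e => by
  by_contra hij
  exact A.pm_ne_of fr (sext_ne w i) (sext_ne w j) (sext_sep (hF := hF) w0 w1 i j hij) e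

theorem sixProd_cases {w : F} (w0 : w ≠ 0) (w1 : w ≠ 1) : A.sixProd fr w = 1 ∨ A.sixProd fr w = a := by
  obtain ⟨hq, hσ, -, -, -, h3, -⟩ := omega_facts (hF := hF) w0 w1
  have h2 := two_zero hF
  have := A.pm_prod fr ((List.finRange 6).map (sext w)) (fun b hb => by
    obtain ⟨i, -, rfl⟩ := List.mem_map.mp hb
    exact sext_ne w i) fun i j => by
    fin_cases i <;> fin_cases j <;> simp [List.finRange_succ, sext, hσ, map_mul] <;> grind
  simpa [List.finRange_succ, Chart.sixProd, Chart.six, mul_assoc] using this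

include L in
/-- A root of four members of a sextet fixing the other two. -/
theorem six_root {w : F} (w0 : w ≠ 0) (w1 : w ≠ 1) :
    ∃ g : G, g ∈ LC a ∧ Commute g (A.six fr w 4) ∧ Commute g (A.six fr w 5) ∧
      g * g = A.sixProd fr w * (A.six fr w 4 * A.six fr w 5) := by
  obtain ⟨hq, hσ, -, -, -, h3, -⟩ := omega_facts (hF := hF) w0 w1
  have h2 := two_zero hF
  obtain ⟨m, ham, hmm, hm⟩ := A.exists_move fr L ![1, 0, 1] ![1, 1, 1] (ne_of_entries 0 (by simp))
    (by simp; linear_combination h2)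
  have mv : ∀ i j : Fin 6, sext w i + (sext w i 0 + sext w i 1 + sext w i 2) • ![1, 0, 1] = (1 : F) • sext w j →
      m * A.six fr w i * m = A.six fr w j := fun i j e =>
    hm (sext w i) (sext w j) 1 (sext_ne w i) (sext_ne w j) (by simpa using e)
  have m0 : m * A.six fr w 0 * m = A.six fr w 2 := mv 0 2 (by
    funext k; fin_cases k <;> simp [sext] <;> linear_combination h2)
  have m1 : m * A.six fr w 1 * m = A.six fr w 3 := mv 1 3 (by
    funext k; fin_cases k <;> simp [sext])
  have m4 : m * A.six fr w 4 * m = A.six fr w 4 := mv 4 4 (by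
    funext k; fin_cases k <;> simp [sext] <;> linear_combination hq)
  have m5 : m * A.six fr w 5 * m = A.six fr w 5 := mv 5 5 (by
    funext k; fin_cases k <;> simp [sext] <;> linear_combination hq)
  have cm : ∀ i j, Commute (A.six fr w i) (A.six fr w j) := fun i j => A.pm_comm fr _ _
  have fix : ∀ {z : G}, m * z * m = z → Commute m z := fun {z} e => by
    show m * z = z * m
    conv_rhs => rw [← e]
    rw [mul_assoc _ m m, hmm, mul_one]
  refine ⟨A.six fr w 0 * A.six fr w 1 * m,
    mul_mem (mul_mem (A.pnt' _).2 (A.pnt' _).2) ham,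
    ((cm 0 4).mul_left (cm 1 4)).mul_left (fix m4), ((cm 0 5).mul_left (cm 1 5)).mul_left (fix m5), ?_⟩
  set s := A.six fr w
  have sq : ∀ i, s i * s i = 1 := fun i => A.pm_sq fr _
  have e1 : m * (s 0 * s 1) * m = s 2 * s 3 := by
    rw [← m0, ← m1]
    calc m * (s 0 * s 1) * m = m * s 0 * (m * m) * s 1 * m := by rw [hmm, mul_one]; simp only [mul_assoc]
      _ = _ := by simp only [mul_assoc]
  calc s 0 * s 1 * m * (s 0 * s 1 * m) = s 0 * s 1 * (m * (s 0 * s 1) * m) := by simp only [mul_assoc]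
    _ = s 0 * s 1 * s 2 * s 3 := by rw [e1]; simp only [mul_assoc]
    _ = A.sixProd fr w * (s 4 * s 5) := by
        show _ = s 0 * s 1 * s 2 * s 3 * s 4 * s 5 * (s 4 * s 5)
        rw [mul_assoc _ (s 5) (s 4 * s 5), ← mul_assoc (s 5), (cm 5 4).eq, mul_assoc (s 4), sq, mul_one,
          mul_assoc _ (s 4) (s 4), sq, mul_one]

include hF in
/-- A third point of a plane through two. -/
theorem exists_third (u v : Iso F) (huv : h u.1 v.1 = 0) (hli : ∀ c d : F, c • u.1 + d • v.1 = 0 → c = 0 ∧ d = 0) :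
    ∃ w : Iso F, h u.1 w.1 = 0 ∧ h v.1 w.1 = 0 ∧ LinearIndependent F ![u.1, v.1, w.1] := by
  classical
  set s : Fin 3 → Fin 6 → F := ![![1, 1, 0, 0, 0, 0], ![0, 0, 1, 1, 0, 0], ![0, 0, 0, 0, 1, 1]]
  have h2 : (1 : F) + 1 = 0 := add_self hF 1
  have hs : LinearIndependent F ![s 0, s 1, s 2] := (li_three hF).mpr fun p q r e => by
    have e0 := congrFun e 0
    have e2 := congrFun e 2
    have e4 := congrFun e 4
    simp [s] at e0 e2 e4
    exact ⟨e0, e2, e4⟩
  have hiso : ∀ i j, h (s i) (s j) = 0 := by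
    intro i j
    fin_cases i <;> fin_cases j <;> simp [s, Cfsg.hermForm, Fin.sum_univ_six, h2]
  have hs2 : LinearIndependent F ![s 0, s 1] := LinearIndependent.pair_iff.mpr fun p q e => by
    have e0 := congrFun e 0
    have e2 := congrFun e 2
    simp [s] at e0 e2
    exact ⟨e0, e2⟩
  obtain ⟨g, hg⟩ := IsotropicCount.herm_trans (n := 6) hF (k := 2)
    ⟨![s 0, s 1], hs2, by
      intro i j
      fin_cases i <;> fin_cases j
      exacts [hiso 0 0, hiso 0 1, hiso 1 0, hiso 1 1]⟩
    ⟨![u.1, v.1], LinearIndependent.pair_iff.mpr hli, by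
      intro i j; fin_cases i <;> fin_cases j
      exacts [u.2.2, huv, swap_zero hF huv, v.2.2]⟩
  have g0 : g.1.1 *ᵥ s 0 = u.1 := hg 0
  have g1 : g.1.1 *ᵥ s 1 = v.1 := hg 1
  have inj : ∀ x, g.1.1 *ᵥ x = 0 → x = 0 := fun x e => h_nondeg hF fun y => by
    rw [← gu_h (q := 2) g x y, e, h_zero_left hF]
  refine ⟨⟨g.1.1 *ᵥ s 2, fun e => ?_, by rw [gu_h, hiso]⟩, ?_, ?_, ?_⟩
  · have := congrFun (inj _ e) 4
    simp [s] at this
  · show h u.1 (g.1.1 *ᵥ s 2) = 0
    rw [← g0, gu_h, hiso]
  · show h v.1 (g.1.1 *ᵥ s 2) = 0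
    rw [← g1, gu_h, hiso]
  · refine (li_three hF).mpr fun p q r e => ?_
    refine (li_three hF).mp hs p q r (inj _ ?_)
    rw [mulVec_add, mulVec_add, mulVec_smul, mulVec_smul, mulVec_smul, g0, g1]
    exact e

include L in
/-- No three members of a sextet with product one are collinear from an outside member. -/
theorem six_no_col {f : Fin 6 → G} (ha : a ∈ D) (hm : ∀ i, f i ∈ D) (hfa : ∀ i, f i ≠ a)
    (hc : ∀ i j, Commute (f i) (f j)) (hinj : Function.Injective f)
    (hp : f 0 * f 1 * f 2 * f 3 * f 4 * f 5 = 1) (i j k q r s : Fin 6)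
    (hσ : List.Perm [i, j, k, q, r, s] (List.finRange 6)) : ¬ Col D a (f i) (f j) (f k) := by
  intro hcol
  have hnd : [f i, f j, f k, f q, f r, f s].Nodup :=
    ((hσ.nodup_iff.mpr (List.nodup_finRange 6)).map hinj)
  have hprod : f i * f j * f k * f q * f r * f s = 1 := by
    have hmap := hσ.map f
    have := hmap.prod_eq' (List.pairwise_of_forall_mem_list fun u hu v hv => by
      obtain ⟨x, -, rfl⟩ := List.mem_map.mp hu
      obtain ⟨y, -, rfl⟩ := List.mem_map.mp hv
      exact hc x y)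
    simp only [List.map_cons, List.map_nil, List.prod_cons, List.prod_nil, mul_one, List.finRange_succ,
      List.finRange_zero] at this
    simp only [mul_assoc]
    rw [this]
    simpa [mul_assoc] using hp
  have hmem : ∀ w ∈ [f i, f j, f k, f q, f r, f s], ∃ x, f x = w := fun w hw => by
    simp only [List.mem_cons, List.not_mem_nil, or_false] at hw
    rcases hw with rfl | rfl | rfl | rfl | rfl | rfl <;> exact ⟨_, rfl⟩
  obtain ⟨c1, c2, c3⟩ := six_col L (fun w hw => by obtain ⟨x, rfl⟩ := hmem w hw; exact hm x)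
    (fun w hw w' hw' => by obtain ⟨x, rfl⟩ := hmem w hw; obtain ⟨y, rfl⟩ := hmem w' hw'; exact hc x y) hnd hprod
  obtain ⟨B⟩ := L.chart (f i) (hm i)
  have nd := hnd
  simp only [List.nodup_cons, List.mem_cons, List.not_mem_nil, or_false, not_or, List.nodup_nil, and_true] at nd
  have := B.col_unique c1 c2 c3 (hcol.perm L ha (Ne.symm nd.1.2.1) (Ne.symm nd.2.1.1)) (List.nodup_cons.mp hnd).2
    (hfa j).symm (hfa k).symm
  simp only [List.mem_cons, List.not_mem_nil, or_false] at this
  rcases this with e | e | e <;> exact hfa _ e.symm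

include L in
/-- Two members of the plane complete to a sextet with product one. -/
theorem exists_sextet (u v : Iso F) (hne : A.pnt u ≠ A.pnt v) (huv : h u.1 v.1 = 0) :
    ∃ (fr : Frame3 hF) (w : F), w ≠ 0 ∧ w ≠ 1 ∧ A.sixProd fr w = 1 ∧ A.six fr w 4 = A.pnt u ∧
      A.six fr w 5 = A.pnt v := by
  classical
  have ha := A.mem
  obtain ⟨W, huW, hvW, hind⟩ := exists_third (hF := hF) u v huv (A.li_two hne)
  have hout : ¬ ∃ c d : F, W.1 = c • u.1 + d • v.1 := by
    rintro ⟨c, d, e⟩
    have := ((li_three hF).mp hind c d (-1) (by rw [e]; module)).2.2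
    exact one_ne_zero (α := F) (by linear_combination -this)
  have hWu : A.pnt W ≠ A.pnt u := fun e => by
    obtain ⟨c, hc⟩ := (A.pnt_eq_iff _ _).mp e
    exact hout ⟨c, 0, by rw [hc, zero_smul, add_zero]⟩
  have hWv : A.pnt W ≠ A.pnt v := fun e => by
    obtain ⟨c, hc⟩ := (A.pnt_eq_iff _ _).mp e
    exact hout ⟨0, c, by rw [hc, zero_smul, zero_add]⟩
  obtain ⟨p, q, r, cp, cq, cr, hnd, hcom, hprod⟩ := five L (A.pnt_mem W) (A.pnt_mem u) (A.pnt_mem v) hWu.symm hWv.symm
    hne ((A.pnt_comm_iff W u).mpr (swap_zero hF huW)) ((A.pnt_comm_iff W v).mpr (swap_zero hF hvW))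
    ((A.pnt_comm_iff u v).mpr huv)
  obtain ⟨B⟩ := L.chart _ (A.pnt_mem W)
  have inT : ∀ z, Col D (A.pnt W) (A.pnt u) (A.pnt v) z → z ≠ A.pnt u → z ≠ A.pnt v →
      ∃ Z : Iso F, A.pnt Z = z := fun z hz n1 n2 => by
    refine A.pnt_surj hz.hz (fun e => ?_) (hz.perp a ha (A.pnt_comm W).symm (A.pnt_comm u).symm
      (A.pnt_comm v).symm).symm
    have c1 : Col D (A.pnt u) (A.pnt v) a (A.pnt W) := (e ▸ hz).perm L (A.pnt_mem W) (A.pnt_ne u).symm (A.pnt_ne v).symm
    have c2 : Col D (A.pnt v) a (A.pnt W) (A.pnt u) := c1.perm L (A.pnt_mem u) hWv (A.pnt_ne W)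
    have c3 : Col D a (A.pnt W) (A.pnt u) (A.pnt v) := c2.perm L (A.pnt_mem v) (A.pnt_ne u) hWu.symm
    obtain ⟨c, d, e'⟩ := (A.col_iff hWu (swap_zero hF huW) (swap_zero hF hvW) huv).mp c3
    by_cases hc : c = 0
    · exact hne.symm ((A.pnt_eq_iff _ _).mpr ⟨d, by rw [e', hc, zero_smul, zero_add]⟩)
    · refine hout ⟨-(c⁻¹ * d), c⁻¹, ?_⟩
      rw [e', smul_add, smul_smul, smul_smul, inv_mul_cancel₀ hc, one_smul]
      module
  have nd := hnd
  simp only [List.nodup_cons, List.mem_cons, List.not_mem_nil, or_false, not_or, List.nodup_nil, and_true,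
    not_false_iff] at nd
  obtain ⟨⟨-, -, nWp, nWq, nWr⟩, ⟨-, nup, nuq, nur⟩, ⟨nvp, nvq, nvr⟩, ⟨npq, npr⟩, nqr⟩ := nd
  obtain ⟨P, rfl⟩ := inT p cp (Ne.symm nup) (Ne.symm nvp)
  obtain ⟨Q, rfl⟩ := inT q cq (Ne.symm nuq) (Ne.symm nvq)
  obtain ⟨R, rfl⟩ := inT r cr (Ne.symm nur) (Ne.symm nvr)
  set iv : Fin 6 → Iso F := ![W, P, Q, R, u, v] with hiv
  set f : Fin 6 → G := fun i => A.pnt (iv i) with hf
  have hc6 : ∀ i j, Commute (f i) (f j) := fun i j =>
    hcom _ (by fin_cases i <;> simp [hf, hiv]) _ (by fin_cases j <;> simp [hf, hiv])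
  have hinj : Function.Injective f := by
    intro i j e
    fin_cases i <;> fin_cases j <;> simp [hf, hiv] at e ⊢ <;>
      first
      | exact absurd e nWp | exact absurd e nWq | exact absurd e nWr | exact absurd e hWu | exact absurd e hWv
      | exact absurd e npq | exact absurd e npr | exact absurd e nqr | exact absurd e hne
      | exact absurd e.symm nWp | exact absurd e.symm nWq | exact absurd e.symm nWr | exact absurd e.symm hWu
      | exact absurd e.symm hWv | exact absurd e.symm npq | exact absurd e.symm npr | exact absurd e.symm nqr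
      | exact absurd e.symm hne
      | exact absurd e nup | exact absurd e nuq | exact absurd e nur | exact absurd e nvp | exact absurd e nvq
      | exact absurd e nvr | exact absurd e.symm nup | exact absurd e.symm nuq | exact absurd e.symm nur
      | exact absurd e.symm nvp | exact absurd e.symm nvq | exact absurd e.symm nvr
  have hp6 : f 0 * f 1 * f 2 * f 3 * f 4 * f 5 = 1 := by
    have hperm : List.Perm [(0 : Fin 6), 1, 2, 3, 4, 5] [0, 4, 5, 1, 2, 3] := by decide
    have := (hperm.map f).prod_eq' (List.pairwise_of_forall_mem_list fun x hx y hy => by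
      obtain ⟨i, -, rfl⟩ := List.mem_map.mp hx
      obtain ⟨j, -, rfl⟩ := List.mem_map.mp hy
      exact hc6 i j)
    simp only [List.map_cons, List.map_nil, List.prod_cons, List.prod_nil, mul_one] at this
    simp only [mul_assoc]
    rw [this]
    show A.pnt W * (A.pnt u * (A.pnt v * (A.pnt P * (A.pnt Q * A.pnt R)))) = 1
    rw [show A.pnt u * (A.pnt v * (A.pnt P * (A.pnt Q * A.pnt R))) = A.pnt W by simpa [mul_assoc] using hprod,
      A.pnt_sq]
  have orth : ∀ i j, h (iv i).1 (iv j).1 = 0 := fun i j => (A.pnt_comm_iff _ _).mp (hc6 i j)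
  have nocol := six_no_col L ha (fun i => A.pnt_mem (iv i)) (fun i => A.pnt_ne (iv i)) hc6 hinj hp6
  have nospan : ∀ i j k q r s : Fin 6, List.Perm [i, j, k, q, r, s] (List.finRange 6) →
      ∀ c d : F, (iv k).1 ≠ c • (iv i).1 + d • (iv j).1 := by
    intro i j k q r s hσ c d e
    have hij : i ≠ j := by
      have := hσ.nodup_iff.mpr (List.nodup_finRange 6)
      simp only [List.nodup_cons, List.mem_cons, not_or] at this
      exact this.1.1
    exact nocol i j k q r s hσ ((A.col_iff (fun e' => hij (hinj e')) (orth i j) (orth i k) (orth j k)).mpr ⟨c, d, e⟩)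
  have ind0 : LinearIndependent F ![W.1, P.1, Q.1] :=
    A.li_of_not_span nWp (nospan 0 1 2 3 4 5 (by decide))
  have coord : ∀ z : Iso F, h z.1 W.1 = 0 → h z.1 P.1 = 0 → h z.1 Q.1 = 0 →
      ∃ α β γ : F, z.1 = α • W.1 + β • P.1 + γ • Q.1 := by
    intro z z1 z2 z3
    obtain ⟨c, hc⟩ := Submodule.mem_span_range_iff_exists_fun F |>.mp
      (Unique.mem_span_plane hF ind0 (fun i j => by
        fin_cases i <;> fin_cases j
        exacts [orth 0 0, orth 0 1, orth 0 2, orth 1 0, orth 1 1, orth 1 2, orth 2 0, orth 2 1, orth 2 2])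
        (u := z.1) fun i => by fin_cases i <;> assumption)
    exact ⟨c 0, c 1, c 2, by rw [← hc, Fin.sum_univ_three]; rfl⟩
  obtain ⟨α, β, γ, hR⟩ := coord R (orth 3 0) (orth 3 1) (orth 3 2)
  have hα : α ≠ 0 := fun e => nospan 1 2 3 0 4 5 (by decide) β γ (by show R.1 = _; rw [hR, e]; simp [hiv])
  have hβ : β ≠ 0 := fun e => nospan 0 2 3 1 4 5 (by decide) α γ (by show R.1 = _; rw [hR, e]; simp [hiv])
  have hγ : γ ≠ 0 := fun e => nospan 0 1 3 2 4 5 (by decide) α β (by show R.1 = _; rw [hR, e]; simp [hiv])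
  let fr : Frame3 hF :=
    { X := α • W.1, Y := β • P.1, Z := γ • Q.1
      hX := by rw [h_smul_left, h_smul_right hF, W.2.2, mul_zero, mul_zero]
      hY := by rw [h_smul_left, h_smul_right hF, P.2.2, mul_zero, mul_zero]
      hZ := by rw [h_smul_left, h_smul_right hF, Q.2.2, mul_zero, mul_zero]
      hXY := by rw [h_smul_left, h_smul_right hF, show h W.1 P.1 = 0 from orth 0 1, mul_zero, mul_zero]
      hXZ := by rw [h_smul_left, h_smul_right hF, show h W.1 Q.1 = 0 from orth 0 2, mul_zero, mul_zero]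
      hYZ := by rw [h_smul_left, h_smul_right hF, show h P.1 Q.1 = 0 from orth 1 2, mul_zero, mul_zero]
      ind := (li_three hF).mpr fun c1 c2 c3 e => by
        have := (li_three hF).mp ind0 (c1 * α) (c2 * β) (c3 * γ) (by simpa [smul_smul] using e)
        exact ⟨(mul_eq_zero.mp this.1).resolve_right hα, (mul_eq_zero.mp this.2.1).resolve_right hβ,
          (mul_eq_zero.mp this.2.2).resolve_right hγ⟩ }
  have normal : ∀ k : Fin 6, k = 4 ∨ k = 5 → ∃ w c : F, w ≠ 0 ∧ w ≠ 1 ∧ (iv k).1 = c • fr.vec ![1, w, w * w] := by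
    intro k hk
    obtain ⟨c1, c2, c3, hz⟩ := coord (iv k) (orth k 0) (orth k 1) (orth k 2)
    have ns : ∀ i j s t v : Fin 6, List.Perm [i, j, 4, s, t, v] (List.finRange 6) →
        List.Perm [i, j, 5, s, t, 4] (List.finRange 6) → ∀ c d : F, (iv k).1 ≠ c • (iv i).1 + d • (iv j).1 := by
      intro i j s t v h4 h5
      rcases hk with rfl | rfl
      exacts [nospan i j 4 s t v h4, nospan i j 5 s t 4 h5]
    set x := c1 / α
    set y := c2 / β
    set z := c3 / γ
    have hx : c1 = x * α := (div_mul_cancel₀ _ hα).symm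
    have hy : c2 = y * β := (div_mul_cancel₀ _ hβ).symm
    have hz' : c3 = z * γ := (div_mul_cancel₀ _ hγ).symm
    have x0 : x ≠ 0 := fun e => ns 1 2 0 3 5 (by decide) (by decide) c2 c3
      (by rw [hz, hx, e]; simp [hiv])
    have y0 : y ≠ 0 := fun e => ns 0 2 1 3 5 (by decide) (by decide) c1 c3
      (by rw [hz, hy, e]; simp [hiv])
    have z0 : z ≠ 0 := fun e => ns 0 1 2 3 5 (by decide) (by decide) c1 c2
      (by rw [hz, hz', e]; simp [hiv])
    have xy : x ≠ y := fun e => ns 2 3 0 1 5 (by decide) (by decide) (c3 - x * γ) x (by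
      rw [hz, hx, hy, ← e]; simp only [hiv, Matrix.cons_val]; rw [hR]; module)
    have xz : x ≠ z := fun e => ns 1 3 0 2 5 (by decide) (by decide) (c2 - x * β) x (by
      rw [hz, hx, hz', ← e]; simp only [hiv, Matrix.cons_val]; rw [hR]; module)
    have yz : y ≠ z := fun e => ns 0 3 1 2 5 (by decide) (by decide) (c1 - y * α) y (by
      rw [hz, hy, hz', ← e]; simp only [hiv, Matrix.cons_val]; rw [hR]; module)
    have w0 : y / x ≠ 0 := div_ne_zero y0 x0
    have w1 : y / x ≠ 1 := fun e => xy ((div_eq_one_iff_eq x0).mp e).symm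
    obtain ⟨hq, -, -, -, -, -, hall⟩ := omega_facts (hF := hF) w0 w1
    refine ⟨y / x, x, w0, w1, ?_⟩
    have hzz : z = x * (y / x * (y / x)) := by
      have : z / x = y / x * (y / x) := by
        rcases hall (z / x) with e | e | e | e
        · exact absurd e (div_ne_zero z0 x0)
        · exact absurd ((div_eq_one_iff_eq x0).mp e).symm xz
        · exact absurd ((div_left_inj' x0).mp e).symm yz
        · exact e
      rw [← this, mul_div_cancel₀ _ x0]
    have hyy : y = x * (y / x) := (mul_div_cancel₀ _ x0).symm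
    rw [hz, hx, hy, hz']
    simp only [Frame3.vec, fr, Matrix.cons_val_zero, Matrix.cons_val_one, Matrix.cons_val_two, Matrix.head_cons,
      Matrix.tail_cons]
    clear_value x y z
    generalize y / x = t at hzz hyy ⊢
    subst hzz hyy
    module
  obtain ⟨w, c, w0, w1, hu⟩ := normal 4 (Or.inl rfl)
  obtain ⟨w', c', w0', w1', hv⟩ := normal 5 (Or.inr rfl)
  have hne0 : ∀ t : F, (![1, t, t * t] : Fin 3 → F) ≠ 0 := fun t => ne_of_entries 0 (by simp)
  have hww : w' = w * w := by
    obtain ⟨-, -, -, -, -, -, hall⟩ := omega_facts (hF := hF) w0 w1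
    rcases hall w' with e | e | e | e
    · exact absurd e w0'
    · exact absurd e w1'
    · exfalso
      refine hne ((A.pnt_eq_iff _ _).mpr ⟨c / c', ?_⟩)
      have hc' : c' ≠ 0 := fun e0 => v.2.1 (by rw [show v.1 = (iv 5).1 from rfl, hv, e0, zero_smul])
      rw [show u.1 = (iv 4).1 from rfl, show v.1 = (iv 5).1 from rfl, hu, hv, e, smul_smul, div_mul_cancel₀ _ hc']
    · exact e
  have hsix : A.six fr w = f := by
    funext i
    refine (A.pnt_eq_iff _ _).mpr ?_
    rw [fr.ipt_val (sext_ne w i)]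
    have hc : c ≠ 0 := fun e0 => u.2.1 (by rw [show u.1 = (iv 4).1 from rfl, hu, e0, zero_smul])
    have hc' : c' ≠ 0 := fun e0 => v.2.1 (by rw [show v.1 = (iv 5).1 from rfl, hv, e0, zero_smul])
    obtain ⟨hq, -, -, -, -, h3, -⟩ := omega_facts (hF := hF) w0 w1
    fin_cases i
    · exact ⟨α, by simp [sext, Frame3.vec, fr, hiv]⟩
    · exact ⟨β, by simp [sext, Frame3.vec, fr, hiv]⟩
    · exact ⟨γ, by simp [sext, Frame3.vec, fr, hiv]⟩
    · exact ⟨1, by simp [sext, Frame3.vec, fr, hiv, hR]⟩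
    · refine ⟨c⁻¹, ?_⟩
      show fr.vec ![1, w, w * w] = c⁻¹ • (iv 4).1
      rw [hu, smul_smul, inv_mul_cancel₀ hc, one_smul]
    · refine ⟨c'⁻¹, ?_⟩
      show fr.vec ![1, w * w, w] = c'⁻¹ • (iv 5).1
      rw [hv, smul_smul, inv_mul_cancel₀ hc', one_smul, hww]
      congr 1
      funext k
      fin_cases k
      · rfl
      · rfl
      · show w = w * w * (w * w)
        linear_combination -w * h3
  refine ⟨fr, w, w0, w1, ?_, ?_, ?_⟩
  · simp only [Chart.sixProd, hsix]
    exact hp6
  · rw [hsix]; rfl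
  · rw [hsix]; rfl

include L in
/-- Products of two commuting partners are squares, in either lift, with roots fixing both. -/
theorem root_pair (A : Chart D hF a) (u v : Iso F) (hne : A.pnt u ≠ A.pnt v) (huv : h u.1 v.1 = 0) {y : G}
    (hy : y = A.pnt u * A.pnt v ∨ y = A.pnt u * A.pnt v * a) :
    ∃ g : G, g ∈ LC a ∧ Commute g (A.pnt u) ∧ Commute g (A.pnt v) ∧ g * g = y := by
  obtain ⟨fr, w, w0, w1, hp, e4, e5⟩ := exists_sextet L A u v hne huv
  rcases hy with rfl | rfl
  · obtain ⟨g, g1, g2, g3, g4⟩ := six_root L A fr w0 w1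
    rw [hp, one_mul, e4, e5] at g4
    rw [e4] at g2
    rw [e5] at g3
    exact ⟨g, g1, g2, g3, g4⟩
  obtain ⟨hq, hσ, z0, z1, zw, h3, -⟩ := omega_facts (hF := hF) w0 w1
  have h2 := two_zero hF
  -- the sextet after scaling the first vector of the frame
  let fr' : Frame3 hF :=
    { X := fr.vec ![w, 0, 0], Y := fr.vec ![w * w, 1, 0], Z := fr.vec ![w * w, 0, 1]
      hX := fr.vec_orth _ _, hY := fr.vec_orth _ _, hZ := fr.vec_orth _ _
      hXY := fr.vec_orth _ _, hXZ := fr.vec_orth _ _, hYZ := fr.vec_orth _ _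
      ind := (li_three hF).mpr fun p q r e => by
        rw [← fr.vec_smul, ← fr.vec_smul, ← fr.vec_smul, ← fr.vec_add, ← fr.vec_add,
          show (0 : Fin 6 → F) = fr.vec 0 by simp [Frame3.vec]] at e
        have e0 := congrFun (fr.vec_inj e) 0
        have e1 := congrFun (fr.vec_inj e) 1
        have e2 := congrFun (fr.vec_inj e) 2
        simp at e0 e1 e2
        subst e1 e2
        simp at e0
        exact ⟨e0.resolve_right w0, rfl, rfl⟩ }
  have hvec : ∀ b : Fin 3 → F, fr'.vec b = fr.vec ![b 0 * w + b 1 * (w * w) + b 2 * (w * w), b 1, b 2] := fun b => by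
    show b 0 • fr.vec ![w, 0, 0] + b 1 • fr.vec ![w * w, 1, 0] + b 2 • fr.vec ![w * w, 0, 1] = _
    rw [← fr.vec_smul, ← fr.vec_smul, ← fr.vec_smul, ← fr.vec_add, ← fr.vec_add]
    congr 1
    funext k
    fin_cases k <;> simp
  have same : ∀ i : Fin 6, ∀ t : Fin 3 → F, t ≠ 0 → (∃ c : F, ![sext w i 0 * w + sext w i 1 * (w * w) +
      sext w i 2 * (w * w), sext w i 1, sext w i 2] = c • t) → A.six fr' w i = A.pm fr t := by
    intro i t ht ⟨c, hc⟩
    refine (A.pnt_eq_iff _ _).mpr ⟨c, ?_⟩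
    rw [fr'.ipt_val (sext_ne w i), fr.ipt_val ht, hvec, hc, fr.vec_smul]
  have s0 : A.six fr' w 0 = A.six fr w 0 :=
    same 0 (sext w 0) (sext_ne w 0) ⟨w, by funext k; fin_cases k <;> simp [sext]⟩
  have s4 : A.six fr' w 4 = A.six fr w 4 :=
    same 4 (sext w 4) (sext_ne w 4) ⟨1, by
      funext k; fin_cases k <;> simp [sext] <;> grind⟩
  have s5 : A.six fr' w 5 = A.six fr w 5 :=
    same 5 (sext w 5) (sext_ne w 5) ⟨1, by
      funext k; fin_cases k <;> simp [sext] <;> grind⟩
  rcases sixProd_cases A fr' w0 w1 with k | k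
  · exfalso
    have iv := six_inj A fr w0 w1
    have iv' := six_inj A fr' w0 w1
    set s := A.six fr w
    set s' := A.six fr' w
    have hcm : ∀ i j, Commute (s i) (s j) := fun i j => A.pm_comm fr _ _
    have hcm' : ∀ i j, Commute (s' i) (s' j) := fun i j => A.pm_comm fr' _ _
    have hord : List.Perm [(0 : Fin 6), 4, 5, 1, 2, 3] (List.finRange 6) := by decide
    have lp : ∀ f : Fin 6 → G, (∀ i j, Commute (f i) (f j)) → f 0 * f 1 * f 2 * f 3 * f 4 * f 5 = 1 →
        f 0 * f 4 * f 5 * f 1 * f 2 * f 3 = 1 := fun f hf hp => by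
      have := (hord.map f).prod_eq' (List.pairwise_of_forall_mem_list fun x hx y hy => by
        obtain ⟨i, -, rfl⟩ := List.mem_map.mp hx
        obtain ⟨j, -, rfl⟩ := List.mem_map.mp hy
        exact hf i j)
      simp only [List.map_cons, List.map_nil, List.prod_cons, List.prod_nil, mul_one, List.finRange_succ,
        List.finRange_zero] at this
      simp only [mul_assoc]
      rw [this]
      simpa [mul_assoc] using hp
    have lmem : ∀ (f : Fin 6 → G) (x : G), x ∈ [f 0, f 4, f 5, f 1, f 2, f 3] → ∃ i, f i = x := fun f x hx => by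
      simp only [List.mem_cons, List.not_mem_nil, or_false] at hx
      rcases hx with rfl | rfl | rfl | rfl | rfl | rfl <;> exact ⟨_, rfl⟩
    have := six_unique L (fun x hx => by obtain ⟨i, rfl⟩ := lmem s x hx; exact A.pm_mem fr _)
      (fun x hx y hy => by obtain ⟨i, rfl⟩ := lmem s x hx; obtain ⟨j, rfl⟩ := lmem s y hy; exact hcm i j)
      ((hord.nodup_iff.mpr (List.nodup_finRange 6)).map iv) (lp s hcm hp)
      (q' := s' 1) (r' := s' 2) (s' := s' 3)
      (fun x hx => by
        rw [← s0, ← s4, ← s5] at hx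
        obtain ⟨i, rfl⟩ := lmem s' x hx; exact A.pm_mem fr' _)
      (fun x hx y hy => by
        rw [← s0, ← s4, ← s5] at hx hy
        obtain ⟨i, rfl⟩ := lmem s' x hx; obtain ⟨j, rfl⟩ := lmem s' y hy; exact hcm' i j)
      (by rw [← s0, ← s4, ← s5]; exact (hord.nodup_iff.mpr (List.nodup_finRange 6)).map iv')
      (by rw [← s0, ← s4, ← s5]; exact lp s' hcm' k)
    have t1 : s' 1 = A.pm fr ![w * w, 1, 0] := same 1 _ (ne_of_entries 1 (by simp)) ⟨1, by
      funext k; fin_cases k <;> simp [sext]⟩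
    simp only [List.mem_cons, List.not_mem_nil, or_false] at this
    have bad : ∀ i : Fin 6, (∀ c : F, (![w * w, 1, 0] : Fin 3 → F) ≠ c • sext w i) → s' 1 ≠ s i := fun i hi => by
      rw [t1]
      exact A.pm_ne_of fr (ne_of_entries 1 (by simp)) (sext_ne w i) hi
    rcases this with e | e | e
    · exact bad 1 (fun c e' => z0 (by simpa [sext] using congrFun e' 0)) e
    · exact bad 2 (fun c e' => one_ne_zero (α := F) (by simpa [sext] using congrFun e' 1)) e
    · refine bad 3 (fun c e' => ?_) e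
      have a1 := congrFun e' 1
      have a2 := congrFun e' 2
      simp [sext] at a1 a2
      exact one_ne_zero (α := F) (a1.trans a2.symm)
  · obtain ⟨g, g1, g2, g3, g4⟩ := six_root L A fr' w0 w1
    rw [s4, e4] at g2
    rw [s5, e5] at g3
    rw [k, s4, s5, e4, e5] at g4
    exact ⟨g, g1, g2, g3, g4.trans ((A.pnt_comm u).mul_right (A.pnt_comm v)).eq⟩

end CfsgLib.Fi22Loc.Rec
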