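/-
The step between products of triples of a plane, and three triples with one image but two products.
-/
import Cfsg.Agent.Lib.Fi22Loc.Rec.Plane

set_option autoImplicit false
set_option linter.unusedSectionVars false

namespace CfsgLib.Fi22Loc.Rec

open CfsgFi22Rec

open Matrix Cfsg CfsgLib CfsgLib.UnitaryTransvection CfsgLib.UnitarySimple CfsgThreeTrans.M22

variable {G : Type*} [Group G]
variable {F : Type} [Field F] [Fintype F] [DecidableEq F]
variable {D : Set G} {hF : Fintype.card F = 2 ^ 2} {a : G}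

local notation "h" => Cfsg.hermForm 6 F 2

/-- Three coordinate vectors form a basis. -/
structure Tri (F : Type) [Field F] where
  b1 : Fin 3 → F
  b2 : Fin 3 → F
  b3 : Fin 3 → F
  li : ∀ p q r : F, p • b1 + q • b2 + r • b3 = 0 → p = 0 ∧ q = 0 ∧ r = 0

theorem Tri.ne (T : Tri F) : T.b1 ≠ 0 ∧ T.b2 ≠ 0 ∧ T.b3 ≠ 0 := by
  refine ⟨fun e => ?_, fun e => ?_, fun e => ?_⟩
  · exact one_ne_zero (T.li 1 0 0 (by simp [e])).1
  · exact one_ne_zero (T.li 0 1 0 (by simp [e])).2.1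
  · exact one_ne_zero (T.li 0 0 1 (by simp [e])).2.2

/-- The standard basis. -/
def Tri.std : Tri F where
  b1 := ![1, 0, 0]
  b2 := ![0, 1, 0]
  b3 := ![0, 0, 1]
  li p q r e := by
    have e0 := congrFun e 0
    have e1 := congrFun e 1
    have e2 := congrFun e 2
    simp at e0 e1 e2
    exact ⟨e0, e1, e2⟩

/-- The vectors in another order, the second scaled. -/
def Tri.swap23 (T : Tri F) : Tri F where
  b1 := T.b1
  b2 := T.b3
  b3 := T.b2
  li p q r e := by
    obtain ⟨a, b, c⟩ := T.li p r q (by rw [← e]; abel)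
    exact ⟨a, c, b⟩

def Tri.rot (T : Tri F) : Tri F where
  b1 := T.b2
  b2 := T.b3
  b3 := T.b1
  li p q r e := by
    obtain ⟨a, b, c⟩ := T.li r p q (by rw [← e]; abel)
    exact ⟨b, c, a⟩

def Tri.scale (T : Tri F) (l : F) (hl : l ≠ 0) : Tri F where
  b1 := T.b1
  b2 := l • T.b2
  b3 := T.b3
  li p q r e := by
    obtain ⟨a, b, c⟩ := T.li p (q * l) r (by rw [← e, smul_smul])
    exact ⟨a, (mul_eq_zero.mp b).resolve_right hl, c⟩

/-- The next triple. -/
def Tri.next (T : Tri F) (w : F) (hw : w * w ≠ w) : Tri F where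
  b1 := T.b3
  b2 := T.b1 + w • T.b2
  b3 := T.b1 + (w * w) • T.b2
  li p q r e := by
    obtain ⟨a, b, c⟩ := T.li (q + r) (q * w + r * (w * w)) p (by rw [← e]; module)
    have hr : r * (w * w - w) = 0 := by linear_combination b - w * a
    have r0 := (mul_eq_zero.mp hr).resolve_right (sub_ne_zero.mpr hw)
    exact ⟨c, by rw [r0, add_zero] at a; exact a, r0⟩

/-- The product of the members of a triple. -/
noncomputable def Chart.tprod (A : Chart D hF a) (fr : Frame3 hF) (T : Tri F) : G :=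
  A.pm fr T.b1 * A.pm fr T.b2 * A.pm fr T.b3

variable (A : Chart D hF a) (fr : Frame3 hF)

theorem tprod_sq (T : Tri F) : A.tprod fr T * A.tprod fr T = 1 := by
  have c1 := A.pm_comm fr T.b1 T.b2
  have c2 := (A.pm_comm fr T.b1 T.b3).mul_left (A.pm_comm fr T.b2 T.b3)
  rw [Chart.tprod, ← pow_two, c2.mul_pow, c1.mul_pow, pow_two, pow_two, pow_two, A.pm_sq, A.pm_sq, A.pm_sq,
    one_mul, one_mul]

theorem tprod_comm (T T' : Tri F) : Commute (A.tprod fr T) (A.tprod fr T') := by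
  have c := fun b => (((A.pm_comm fr T.b1 b).mul_left (A.pm_comm fr T.b2 b)).mul_left (A.pm_comm fr T.b3 b))
  exact ((c _).mul_right (c _)).mul_right (c _)

theorem tprod_base (T : Tri F) : Commute a (A.tprod fr T) :=
  ((A.pm_comm_base fr _).mul_right (A.pm_comm_base fr _)).mul_right (A.pm_comm_base fr _)

theorem tprod_scale (T : Tri F) (l : F) (hl : l ≠ 0) : A.tprod fr (T.scale l hl) = A.tprod fr T := by
  show A.pm fr T.b1 * A.pm fr (l • T.b2) * A.pm fr T.b3 = _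
  rw [(A.pm_eq_iff fr (smul_ne_zero hl T.ne.2.1) T.ne.2.1).mpr ⟨l, rfl⟩]
  rfl

theorem tprod_rot (T : Tri F) : A.tprod fr T.rot = A.tprod fr T := by
  show A.pm fr T.b2 * A.pm fr T.b3 * A.pm fr T.b1 = A.pm fr T.b1 * A.pm fr T.b2 * A.pm fr T.b3
  rw [← ((A.pm_comm fr T.b1 T.b2).mul_right (A.pm_comm fr T.b1 T.b3)).eq, mul_assoc]

theorem tprod_swap23 (T : Tri F) : A.tprod fr T.swap23 = A.tprod fr T := by
  show A.pm fr T.b1 * A.pm fr T.b3 * A.pm fr T.b2 = A.pm fr T.b1 * A.pm fr T.b2 * A.pm fr T.b3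
  rw [mul_assoc, (A.pm_comm fr T.b3 T.b2).eq, mul_assoc]

include hF in
/-- The step: the two products differ by a square whose root fixes the first, and they are conjugate. -/
theorem step (L : Local D hF) (T : Tri F) {w : F} (hw : w * w ≠ w) :
    ∃ g m : G, Commute a g ∧ Commute a m ∧ m * m = 1 ∧ Commute g (A.tprod fr T) ∧
      g * g = A.tprod fr T * A.tprod fr (T.next w hw) ∧
      m * A.tprod fr T * m = A.tprod fr (T.next w hw) := by
  have w0 : w ≠ 0 := fun e => hw (by rw [e, mul_zero])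
  have w1 : w ≠ 1 := fun e => hw (by rw [e, mul_one])
  obtain ⟨hq, hσ, z0, z1, -, h3, -⟩ := omega_facts (hF := hF) w0 w1
  have h2 := two_zero hF
  -- the triple as a frame
  let fT : Frame3 hF :=
    { X := fr.vec T.b1, Y := fr.vec T.b2, Z := fr.vec T.b3
      hX := fr.vec_orth _ _, hY := fr.vec_orth _ _, hZ := fr.vec_orth _ _
      hXY := fr.vec_orth _ _, hXZ := fr.vec_orth _ _, hYZ := fr.vec_orth _ _
      ind := (li_three hF).mpr fun p q r e => by
        rw [← fr.vec_smul, ← fr.vec_smul, ← fr.vec_smul, ← fr.vec_add, ← fr.vec_add] at e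
        exact T.li p q r (fr.vec_inj (e.trans (by simp [Frame3.vec]))) }
  have conv : ∀ (t : Fin 3 → F) (b : Fin 3 → F), t ≠ 0 → b ≠ 0 →
      b = t 0 • T.b1 + t 1 • T.b2 + t 2 • T.b3 → A.pm fT t = A.pm fr b := fun t b ht hb e => by
    refine (A.pnt_eq_iff _ _).mpr ⟨1, ?_⟩
    rw [fT.ipt_val ht, fr.ipt_val hb, one_smul, e, fr.vec_add, fr.vec_add, fr.vec_smul, fr.vec_smul, fr.vec_smul]
    rfl
  have n100 : (![1, 0, 0] : Fin 3 → F) ≠ 0 := ne_of_entries 0 (by simp)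
  have n010 : (![0, 1, 0] : Fin 3 → F) ≠ 0 := ne_of_entries 1 (by simp)
  have n001 : (![0, 0, 1] : Fin 3 → F) ≠ 0 := ne_of_entries 2 (by simp)
  have n110 : (![1, 1, 0] : Fin 3 → F) ≠ 0 := ne_of_entries 0 (by simp)
  have nw : ∀ t : F, (![1, t, 0] : Fin 3 → F) ≠ 0 := fun t => ne_of_entries 0 (by simp)
  set P := fun t : Fin 3 → F => A.pm fT t with hP
  set X := P ![1, 0, 0]
  set Y := P ![0, 1, 0]
  set Z := P ![0, 0, 1]
  set Q := P ![1, w, 0]
  set R := P ![1, w * w, 0]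
  have eX : X = A.pm fr T.b1 := conv _ _ n100 T.ne.1 (by simp)
  have eY : Y = A.pm fr T.b2 := conv _ _ n010 T.ne.2.1 (by simp)
  have eZ : Z = A.pm fr T.b3 := conv _ _ n001 T.ne.2.2 (by simp)
  have eQ : Q = A.pm fr (T.b1 + w • T.b2) := conv _ _ (nw w) (T.next w hw).ne.2.1 (by simp)
  have eR : R = A.pm fr (T.b1 + (w * w) • T.b2) := conv _ _ (nw _) (T.next w hw).ne.2.2 (by simp)
  have hT : A.tprod fr T = X * Y * Z := by rw [eX, eY, eZ]; rfl
  have hT' : A.tprod fr (T.next w hw) = Z * Q * R := by rw [eZ, eQ, eR]; rfl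
  have cm : ∀ s t, Commute (P s) (P t) := fun s t => A.pm_comm fT s t
  have sq : ∀ s, P s * P s = 1 := fun s => A.pm_sq fT s
  obtain ⟨m1, am1, m1m1, hm1⟩ := A.exists_move fT L ![1, 1, 0] ![1, 1, 0] n110 (by simp; linear_combination h2)
  have m1X : m1 * X * m1 = Y := hm1 _ _ 1 n100 n010 (by funext k; fin_cases k <;> simp; linear_combination h2)
  have m1Q : m1 * Q * m1 = R := hm1 _ _ w (nw w) (nw _) (by funext k; fin_cases k <;> simp <;> grind)
  have m1Z : m1 * Z * m1 = Z := hm1 _ _ 1 n001 n001 (by funext k; fin_cases k <;> simp)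
  have m1Y : m1 * Y * m1 = X := by rw [← m1X]; simp only [mul_assoc, m1m1, mul_one]; rw [← mul_assoc, m1m1, one_mul]
  obtain ⟨m2, am2, m2m2, hm2⟩ := A.exists_move fT L ![1, 1, 0] ![w * w, w * w, 0]
    (ne_of_entries 0 (by simpa using z0)) (by simp; linear_combination (w * w) * h2)
  have m2X : m2 * X * m2 = Q := hm2 _ _ w n100 (nw w) (by funext k; fin_cases k <;> simp <;> grind)
  have m2Y : m2 * Y * m2 = R := hm2 _ _ (w * w) n010 (nw _) (by funext k; fin_cases k <;> simp <;> grind)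
  have m2Z : m2 * Z * m2 = Z := hm2 _ _ 1 n001 n001 (by funext k; fin_cases k <;> simp)
  have cj : ∀ {m : G}, m * m = 1 → ∀ u v : G, m * (u * v) * m = (m * u * m) * (m * v * m) := fun {m} hm u v => by
    calc m * (u * v) * m = m * u * (m * m) * v * m := by rw [hm, mul_one]; simp only [mul_assoc]
      _ = _ := by simp only [mul_assoc]
  refine ⟨X * Q * m1, m2, ((A.pm_comm_base fT _).mul_right (A.pm_comm_base fT _)).mul_right (LC_comm am1), LC_comm am2, m2m2, ?_, ?_, ?_⟩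
  · rw [hT]
    have hx : m1 * (X * Y * Z) * m1 = X * Y * Z := by
      rw [cj m1m1, cj m1m1, m1X, m1Y, m1Z, (cm _ _).eq]
    have c1 : Commute m1 (X * Y * Z) := by
      show m1 * (X * Y * Z) = X * Y * Z * m1
      conv_rhs => rw [← hx]
      rw [mul_assoc _ m1 m1, m1m1, mul_one]
    exact (((cm _ _).mul_right (cm _ _)).mul_right (cm _ _) |>.mul_left
      (((cm _ _).mul_right (cm _ _)).mul_right (cm _ _))).mul_left c1
  · rw [hT, hT']
    have e1 : m1 * (X * Q) * m1 = Y * R := by rw [cj m1m1, m1X, m1Q]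
    calc X * Q * m1 * (X * Q * m1) = X * Q * (m1 * (X * Q) * m1) := by simp only [mul_assoc]
      _ = X * Q * (Y * R) := by rw [e1]
      _ = X * (Q * Y) * R := by simp only [mul_assoc]
      _ = X * Y * Q * R := by rw [(cm _ _).eq]; simp only [mul_assoc]; rfl
      _ = X * Y * (Z * Z) * Q * R := by rw [sq, mul_one]
      _ = X * Y * Z * (Z * Q * R) := by simp only [mul_assoc]
  · rw [hT, hT', cj m2m2, cj m2m2, m2X, m2Y, m2Z]
    exact ((cm _ _).mul_right (cm _ _)).eq.symm.trans (mul_assoc _ _ _).symm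

/-- Three triples with the same image: two products differ by the base. -/
theorem three_triples (L : Local D hF) (T1 T2 T3 : Tri F) (hnd : [A.pm fr T1.b1, A.pm fr T1.b2, A.pm fr T1.b3,
      A.pm fr T2.b1, A.pm fr T2.b2, A.pm fr T2.b3, A.pm fr T3.b1, A.pm fr T3.b2, A.pm fr T3.b3].Nodup)
    (h12 : ∀ i j : Fin 3, T1.b1 i * frob hF (T1.b1 j) + T1.b2 i * frob hF (T1.b2 j) + T1.b3 i * frob hF (T1.b3 j) +
      (T2.b1 i * frob hF (T2.b1 j) + T2.b2 i * frob hF (T2.b2 j) + T2.b3 i * frob hF (T2.b3 j)) = 0)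
    (h13 : ∀ i j : Fin 3, T1.b1 i * frob hF (T1.b1 j) + T1.b2 i * frob hF (T1.b2 j) + T1.b3 i * frob hF (T1.b3 j) +
      (T3.b1 i * frob hF (T3.b1 j) + T3.b2 i * frob hF (T3.b2 j) + T3.b3 i * frob hF (T3.b3 j)) = 0) :
    A.tprod fr T1 * A.tprod fr T2 = a ∨ A.tprod fr T1 * A.tprod fr T3 = a := by
  have pr : ∀ T T' : Tri F, (∀ i j : Fin 3, T.b1 i * frob hF (T.b1 j) + T.b2 i * frob hF (T.b2 j) +
      T.b3 i * frob hF (T.b3 j) + (T'.b1 i * frob hF (T'.b1 j) + T'.b2 i * frob hF (T'.b2 j) +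
      T'.b3 i * frob hF (T'.b3 j)) = 0) → A.tprod fr T * A.tprod fr T' = 1 ∨ A.tprod fr T * A.tprod fr T' = a := by
    intro T T' hh
    have := A.pm_prod fr [T.b1, T.b2, T.b3, T'.b1, T'.b2, T'.b3] (fun b hb => by
      simp only [List.mem_cons, List.not_mem_nil, or_false] at hb
      rcases hb with rfl | rfl | rfl | rfl | rfl | rfl
      exacts [T.ne.1, T.ne.2.1, T.ne.2.2, T'.ne.1, T'.ne.2.1, T'.ne.2.2]) fun i j => by
      rw [← hh i j]; simp; ring
    simpa [Chart.tprod, mul_assoc] using this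
  rcases pr T1 T2 h12 with e2 | e2
  swap
  · exact Or.inl e2
  rcases pr T1 T3 h13 with e3 | e3
  swap
  · exact Or.inr e3
  exfalso
  have fl : ∀ T T' : Tri F, A.tprod fr T * A.tprod fr T' = 1 →
      A.pm fr T.b1 * A.pm fr T.b2 * A.pm fr T.b3 * A.pm fr T'.b1 * A.pm fr T'.b2 * A.pm fr T'.b3 = 1 :=
    fun T T' e => by simpa [Chart.tprod, mul_assoc] using e
  have hm : ∀ l : List (Fin 3 → F), ∀ z ∈ l.map (A.pm fr), z ∈ D := fun l z hz => by
    obtain ⟨b, -, rfl⟩ := List.mem_map.mp hz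
    exact A.pm_mem fr b
  have hc : ∀ l : List (Fin 3 → F), ∀ z ∈ l.map (A.pm fr), ∀ z' ∈ l.map (A.pm fr), Commute z z' :=
    fun l z hz z' hz' => by
      obtain ⟨b, -, rfl⟩ := List.mem_map.mp hz
      obtain ⟨b', -, rfl⟩ := List.mem_map.mp hz'
      exact A.pm_comm fr b b'
  have nd := hnd
  simp only [List.nodup_cons, List.mem_cons, List.not_mem_nil, or_false, not_or, List.nodup_nil, and_true,
    not_false_iff] at nd
  obtain ⟨⟨a2, a3, a4, a5, a6, a7, a8, a9⟩, ⟨b3, b4, b5, b6, b7, b8, b9⟩, ⟨c4, c5, c6, c7, c8, c9⟩,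
    ⟨d5, d6, d7, d8, d9⟩, ⟨f6, f7, f8, f9⟩, ⟨g7, g8, g9⟩, ⟨i8, i9⟩, j9⟩ := nd
  have n2 : [A.pm fr T1.b1, A.pm fr T1.b2, A.pm fr T1.b3, A.pm fr T2.b1, A.pm fr T2.b2, A.pm fr T2.b3].Nodup := by
    simp only [List.nodup_cons, List.mem_cons, List.not_mem_nil, or_false, not_or, List.nodup_nil, and_true,
      not_false_iff]
    exact ⟨⟨a2, a3, a4, a5, a6⟩, ⟨b3, b4, b5, b6⟩, ⟨c4, c5, c6⟩, ⟨d5, d6⟩, f6⟩
  have n3 : [A.pm fr T1.b1, A.pm fr T1.b2, A.pm fr T1.b3, A.pm fr T3.b1, A.pm fr T3.b2, A.pm fr T3.b3].Nodup := by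
    simp only [List.nodup_cons, List.mem_cons, List.not_mem_nil, or_false, not_or, List.nodup_nil, and_true,
      not_false_iff]
    exact ⟨⟨a2, a3, a7, a8, a9⟩, ⟨b3, b7, b8, b9⟩, ⟨c7, c8, c9⟩, ⟨i8, i9⟩, j9⟩
  have := six_unique L (hm [_, _, _, _, _, _]) (hc [_, _, _, _, _, _]) n2 (fl T1 T2 e2)
    (hm [_, _, _, _, _, _]) (hc [_, _, _, _, _, _]) n3 (fl T1 T3 e3)
  simp only [List.mem_cons, List.not_mem_nil, or_false] at this
  rcases this with e | e | e
  exacts [d7 e.symm, f7 e.symm, g7 e.symm]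

end CfsgLib.Fi22Loc.Rec
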