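/-
Groups of type M(22) are local in the sense needed, and the lift of a transvection times the base is a square.
-/
import Cfsg.Agent.Lib.Fi22Loc.Rec.Step
import Cfsg.Agent.Lib.ThreeTrans.M22.Quasi

set_option autoImplicit false
set_option linter.unusedSectionVars false

namespace CfsgLib.Fi22Loc.Rec

open CfsgFi22Rec

open Matrix Cfsg CfsgLib CfsgLib.UnitaryTransvection CfsgLib.UnitarySimple CfsgThreeTrans CfsgThreeTrans.M22

variable {G : Type*} [Group G] {D : Set G}
variable {F : Type} [Field F] [Fintype F] [DecidableEq F] {hF : Fintype.card F = 2 ^ 2}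

local notation "h" => Cfsg.hermForm 6 F 2
local notation "π" => QuotientGroup.mk' (Subgroup.center (Cfsg.SU 6 F 2))

include hF in
/-- An isotropic point orthogonal to and different from a given one. -/
theorem exists_second (u : Iso F) : ∃ v : Iso F, h u.1 v.1 = 0 ∧ ∀ c d : F, c • u.1 + d • v.1 = 0 → c = 0 ∧ d = 0 := by
  classical
  set s : Fin 2 → Fin 6 → F := ![![1, 1, 0, 0, 0, 0], ![0, 0, 1, 1, 0, 0]]
  have h2 : (1 : F) + 1 = 0 := add_self hF 1
  have hiso : ∀ i j, h (s i) (s j) = 0 := by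
    intro i j
    fin_cases i <;> fin_cases j <;> simp [s, Cfsg.hermForm, Fin.sum_univ_six, h2]
  have hs0 : s 0 ≠ 0 := fun e => by simpa [s] using congrFun e 0
  obtain ⟨g, hg⟩ := IsotropicCount.herm_trans (n := 6) hF (k := 1)
    ⟨![s 0], LinearIndependent.of_subsingleton 0 (by simpa using hs0), fun i j => by
      fin_cases i; fin_cases j; exact hiso 0 0⟩
    ⟨![u.1], LinearIndependent.of_subsingleton 0 (by simpa using u.2.1), fun i j => by
      fin_cases i; fin_cases j; exact u.2.2⟩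
  have g0 : g.1.1 *ᵥ s 0 = u.1 := hg 0
  have inj : ∀ x, g.1.1 *ᵥ x = 0 → x = 0 := fun x e => h_nondeg hF fun y => by
    rw [← gu_h (q := 2) g x y, e, h_zero_left hF]
  refine ⟨⟨g.1.1 *ᵥ s 1, fun e => ?_, by rw [gu_h, hiso]⟩, ?_, fun c d e => ?_⟩
  · have := congrFun (inj _ e) 2
    simp [s] at this
  · show h u.1 (g.1.1 *ᵥ s 1) = 0
    rw [← g0, gu_h, hiso]
  · have e' := inj (c • s 0 + d • s 1) (by rw [mulVec_add, mulVec_smul, mulVec_smul, g0]; exact e)
    have e0 := congrFun e' 0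
    have e2 := congrFun e' 2
    simp [s] at e0 e2
    exact ⟨e0, e2⟩

variable {a : G}

/-- The other lift of a transvection is a square. -/
theorem root_one (L : Local D hF) (A : Chart D hF a) (u : Iso F) :
    ∃ g : G, Commute a g ∧ g * g = A.pnt u * a := by
  classical
  obtain ⟨v, huv, hli⟩ := exists_second (hF := hF) u
  obtain ⟨W, huW, hvW, hind⟩ := exists_third (hF := hF) u v huv hli
  have h2 := two_zero hF
  let fr : Frame3 hF :=
    { X := v.1, Y := u.1 + v.1, Z := W.1
      hX := v.2.2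
      hY := by rw [h_add_left, h_add_right hF, h_add_right hF, u.2.2, v.2.2, huv, swap_zero hF huv]; simp
      hZ := W.2.2
      hXY := by rw [h_add_right hF, v.2.2, swap_zero hF huv, add_zero]
      hXZ := hvW
      hYZ := by rw [h_add_left, huW, hvW, add_zero]
      ind := (li_three hF).mpr fun p q r e => by
        obtain ⟨a1, a2, a3⟩ := (li_three hF).mp hind q (p + q) r (by rw [show q • u.1 + (p + q) • v.1 + r • W.1 = p • v.1 + q • (u.1 + v.1) + r • W.1 by module]; exact e)
        refine ⟨?_, a1, a3⟩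
        rwa [a1, add_zero] at a2 }
  obtain ⟨w, w0, w1, hq, -, -⟩ := exists_zeta hF
  obtain ⟨-, -, z0, z1, zw, -, -⟩ := omega_facts (hF := hF) w0 w1
  obtain ⟨g, -, ag, -, -, -, gg, -⟩ := step A fr L Tri.std zw
  refine ⟨g, ag, gg.trans ?_⟩
  set P := A.pm fr
  have cm : ∀ b b', Commute (P b) (P b') := fun b b' => A.pm_comm fr b b'
  have n100 : (![1, 0, 0] : Fin 3 → F) ≠ 0 := ne_of_entries 0 (by simp)
  have n010 : (![0, 1, 0] : Fin 3 → F) ≠ 0 := ne_of_entries 1 (by simp)
  have nw : ∀ t : F, (![1, t, 0] : Fin 3 → F) ≠ 0 := fun t => ne_of_entries 0 (by simp)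
  have hxy : P ![1, 0, 0] ≠ P ![0, 1, 0] := A.pm_ne_of fr n100 n010 fun c e => by simpa using congrFun e 0
  have col : ∀ t : F, Col D a (P ![1, 0, 0]) (P ![0, 1, 0]) (P ![1, t, 0]) := fun t =>
    (A.pm_col fr n100 n010 (nw t) hxy).mpr ⟨1, t, by funext k; fin_cases k <;> simp⟩
  have five := line_prod L A.mem (col 1) (col w) (col (w * w)) (by
    have xs : ∀ t : F, t ≠ 0 → P ![1, 0, 0] ≠ P ![1, t, 0] := fun t ht =>
      Ne.symm (A.pm_ne_of fr (nw t) n100 fun c e => ht (by simpa using congrFun e 1))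
    have ys : ∀ t : F, P ![0, 1, 0] ≠ P ![1, t, 0] := fun t =>
      Ne.symm (A.pm_ne_of fr (nw t) n010 fun c e => by simpa using congrFun e 0)
    have ds : ∀ s t : F, s ≠ t → P ![1, s, 0] ≠ P ![1, t, 0] := fun s t hst =>
      A.pm_ne_of fr (nw s) (nw t) fun c e => by
        have e0 := congrFun e 0
        have e1 := congrFun e 1
        simp at e0 e1
        rw [← e0, one_mul] at e1
        exact hst e1
    simp only [List.nodup_cons, List.mem_cons, List.not_mem_nil, or_false, not_or, List.nodup_nil, and_true,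
      not_false_iff]
    exact ⟨⟨hxy, xs 1 one_ne_zero, xs w w0, xs _ z0⟩, ⟨ys 1, ys w, ys _⟩, ⟨ds 1 w w1.symm, ds 1 _ z1.symm⟩,
      ds w _ zw.symm⟩)
  have hu : P ![1, 1, 0] = A.pnt u := (A.pnt_eq_iff _ _).mpr ⟨1, by
    rw [fr.ipt_val (nw 1), one_smul]
    show (1 : F) • v.1 + (1 : F) • (u.1 + v.1) + (0 : F) • W.1 = u.1
    rw [one_smul, one_smul, zero_smul, add_zero, add_comm u.1, ← add_assoc, vadd_self hF, zero_add]⟩
  have t1 : A.tprod fr (Tri.std.next w zw) = P ![0, 0, 1] * P ![1, w, 0] * P ![1, w * w, 0] := by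
    have ea : (![1, 0, 0] : Fin 3 → F) + w • ![0, 1, 0] = ![1, w, 0] := by funext k; fin_cases k <;> simp
    have eb : (![1, 0, 0] : Fin 3 → F) + (w * w) • ![0, 1, 0] = ![1, w * w, 0] := by funext k; fin_cases k <;> simp
    show P ![0, 0, 1] * P (![1, 0, 0] + w • ![0, 1, 0]) * P (![1, 0, 0] + (w * w) • ![0, 1, 0]) = _
    rw [ea, eb]
  rw [t1, ← hu]
  show P ![1, 0, 0] * P ![0, 1, 0] * P ![0, 0, 1] * (P ![0, 0, 1] * P ![1, w, 0] * P ![1, w * w, 0]) = _
  set X := P ![1, 0, 0]
  set Y := P ![0, 1, 0]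
  set Z := P ![0, 0, 1]
  set S := P ![1, 1, 0]
  set Q := P ![1, w, 0]
  set R := P ![1, w * w, 0]
  have sS : S * S = 1 := A.pm_sq fr _
  calc X * Y * Z * (Z * Q * R) = X * Y * (Z * Z) * Q * R := by simp only [mul_assoc]
    _ = X * Y * Q * R := by rw [show Z * Z = 1 from A.pm_sq fr _, mul_one]
    _ = S * S * (X * Y * Q * R) := by rw [sS, one_mul]
    _ = S * (S * (X * Y) * Q * R) := by simp only [mul_assoc]
    _ = S * (X * Y * S * Q * R) := by rw [((cm _ _).mul_right (cm _ _) : Commute S (X * Y)).eq]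
    _ = S * a := by rw [five]

/-- A member is no square in its derived centraliser. -/
theorem member_not_square (L : Local D hF) {y g : G} (hy : y ∈ D) (hg : g ∈ LC y) : g * g ≠ y := fun e => by
  obtain ⟨B⟩ := L.chart y hy
  exact B.not_square_self hg e

end CfsgLib.Fi22Loc.Rec
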