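/-
Eight members on the diagram Y331, and no member extending seven of them on the wrong side.
-/
import Cfsg.Agent.Lib.Fi22Loc.Rec.Points

set_option autoImplicit false
set_option linter.unusedSectionVars false
set_option maxHeartbeats 2000000

namespace CfsgLib.Fi22Loc.Rec

open CfsgFi22Rec

open Matrix Cfsg CfsgLib CfsgLib.UnitaryTransvection CfsgLib.UnitarySimple CfsgThreeTrans.M22

variable {G : Type*} [Group G] {D : Set G}
variable {F : Type} [Field F] [Fintype F] [DecidableEq F] {hF : Fintype.card F = 2 ^ 2} {a : G}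

local notation "h" => Cfsg.hermForm 6 F 2

/-- The vector of `c`. -/
def vC : Fin 6 → F := ![0, 1, 1, 1, 1, 0]
/-- The vector of `d`. -/
def vD : Fin 6 → F := ![1, 1, 0, 0, 0, 0]
/-- The vector of `e`. -/
def vE : Fin 6 → F := ![0, 1, 1, 0, 0, 0]
/-- The vector of `f`. -/
def vF : Fin 6 → F := ![0, 0, 1, 1, 0, 0]
/-- The vector of `g`. -/
def vG : Fin 6 → F := ![0, 0, 0, 1, 1, 0]
/-- The vector of `i`. -/
def vI : Fin 6 → F := ![1, 1, 1, 1, 1, 1]
/-- A vector separating `i`. -/
def vS (w : F) : Fin 6 → F := ![1, 0, 0, 0, 0, w]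

/-- The form in coordinates, with the entries written out. -/
theorem herm_six (x y : Fin 6 → F) : h x y = x 0 * (y 0 * y 0) + x 1 * (y 1 * y 1) + x 2 * (y 2 * y 2) +
    x 3 * (y 3 * y 3) + x 4 * (y 4 * y 4) + x 5 * (y 5 * y 5) := by
  simp [Cfsg.hermForm, Fin.sum_univ_six, pow_two]

include hF in
theorem goods : Good (vC : Fin 6 → F) ∧ Good (vD : Fin 6 → F) ∧ Good (vE : Fin 6 → F) ∧ Good (vF : Fin 6 → F) ∧
    Good (vG : Fin 6 → F) ∧ Good (vI : Fin 6 → F) := by
  have h2 := two_zero hF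
  refine ⟨⟨fun e => ?_, ?_⟩, ⟨fun e => ?_, ?_⟩, ⟨fun e => ?_, ?_⟩, ⟨fun e => ?_, ?_⟩, ⟨fun e => ?_, ?_⟩,
    ⟨fun e => ?_, ?_⟩⟩
  · simpa [vC] using congrFun e 1
  · rw [herm_six]; simp [vC]; linear_combination 2 * h2
  · simpa [vD] using congrFun e 0
  · rw [herm_six]; simp [vD]; linear_combination h2
  · simpa [vE] using congrFun e 1
  · rw [herm_six]; simp [vE]; linear_combination h2
  · simpa [vF] using congrFun e 2
  · rw [herm_six]; simp [vF]; linear_combination h2
  · simpa [vG] using congrFun e 3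
  · rw [herm_six]; simp [vG]; linear_combination h2
  · simpa [vI] using congrFun e 0
  · rw [herm_six]; simp [vI]; linear_combination 3 * h2

include hF in
theorem good_vS {w : F} (w0 : w ≠ 0) : Good (vS w) := by
  refine ⟨fun e => by simpa [vS] using congrFun e 0, ?_⟩
  rw [herm_six]
  simp [vS]
  linear_combination cube hF w0 + two_zero hF

/-- The form of a chain of six. -/
def gram (x y : Fin 6 → F) : F := x 0 * (y 1 * y 1) + x 1 * (y 0 * y 0) + x 1 * (y 2 * y 2) + x 2 * (y 1 * y 1) +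
  x 2 * (y 3 * y 3) + x 3 * (y 2 * y 2) + x 3 * (y 4 * y 4) + x 4 * (y 3 * y 3) + x 4 * (y 5 * y 5) +
  x 5 * (y 4 * y 4)

/-- Seven members with a further one perpendicular to all of them and not to the base. -/
structure Eight (A : Chart D hF a) where
  b : G
  hb : b ∈ D
  nab : ¬ Commute a b
  nbc : ¬ Commute b (A.mv vC)
  bd : Commute b (A.mv vD)
  be : Commute b (A.mv vE)
  bf : Commute b (A.mv vF)
  bg : Commute b (A.mv vG)
  bi : Commute b (A.mv vI)
  nov : ∀ v ∈ D, Commute v a → Commute v b → Commute v (A.mv vC) → Commute v (A.mv vD) → Commute v (A.mv vE) →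
    Commute v (A.mv vF) → Commute v (A.mv vG) → Commute (A.mv vI) v

/-- The eight members exist. -/
theorem exists_eight (L : Local D hF) (A : Chart D hF a) : Nonempty (Eight A) := by
  obtain ⟨gC, gD, gE, gF, gG, gI⟩ := goods (F := F) (hF := hF)
  obtain ⟨w, w0, w1, -, -, -⟩ := exists_zeta hF
  obtain ⟨hq, -, z0, z1, zw, h3, hall⟩ := omega_facts (hF := hF) w0 w1
  have h2 := two_zero hF
  have gS := good_vS (hF := hF) w0
  set c := A.mv vC with hc
  set d := A.mv vD with hd
  set e := A.mv vE with he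
  set f := A.mv vF with hf
  set g := A.mv vG with hg
  set i := A.mv vI with hi
  set s := A.mv (vS w) with hs
  have ci : ∀ {x y : Fin 6 → F}, Good x → Good y → h x y = 0 → Commute (A.mv x) (A.mv y) := fun hx hy k =>
    (A.mv_comm_iff hx hy).mpr k
  have cce : Commute c e := ci gC gE (by simp [herm_six, vC, vE]; linear_combination h2)
  have ccg : Commute c g := ci gC gG (by simp [herm_six, vC, vG]; linear_combination h2)
  have ccf : Commute c f := ci gC gF (by simp [herm_six, vC, vF]; linear_combination h2)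
  have cci : Commute c i := ci gC gI (by simp [herm_six, vC, vI]; linear_combination 2 * h2)
  have cdi : Commute d i := ci gD gI (by simp [herm_six, vD, vI]; linear_combination h2)
  have cdf : Commute d f := ci gD gF (by simp [herm_six, vD, vF])
  have cdg : Commute d g := ci gD gG (by simp [herm_six, vD, vG])
  have cei : Commute e i := ci gE gI (by simp [herm_six, vE, vI]; linear_combination h2)
  have ceg : Commute e g := ci gE gG (by simp [herm_six, vE, vG])
  have cfi : Commute f i := ci gF gI (by simp [herm_six, vF, vI]; linear_combination h2)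
  have cgi : Commute g i := ci gG gI (by simp [herm_six, vG, vI]; linear_combination h2)
  have ncd : ¬ Commute c d := fun k => one_ne_zero (α := F) (by
    have := (A.mv_comm_iff gC gD).mp k; simpa [herm_six, vC, vD] using this)
  have nde : ¬ Commute d e := fun k => one_ne_zero (α := F) (by
    have := (A.mv_comm_iff gD gE).mp k; simpa [herm_six, vD, vE] using this)
  have nef : ¬ Commute e f := fun k => one_ne_zero (α := F) (by
    have := (A.mv_comm_iff gE gF).mp k; simpa [herm_six, vE, vF] using this)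
  have nfg : ¬ Commute f g := fun k => one_ne_zero (α := F) (by
    have := (A.mv_comm_iff gF gG).mp k; simpa [herm_six, vF, vG] using this)
  have nis : ¬ Commute i s := fun k => by
    have := (A.mv_comm_iff gI gS).mp k
    simp [herm_six, vI, vS] at this
    exact z1 (by linear_combination this - h2)
  have csc : Commute s c := ci gS gC (by simp [herm_six, vS, vC])
  have cse : Commute s e := ci gS gE (by simp [herm_six, vS, vE])
  have csg : Commute s g := ci gS gG (by simp [herm_six, vS, vG])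
  have cas : Commute a s := A.mv_comm_base gS
  have ac : Commute a c := A.mv_comm_base gC
  have ad : Commute a d := A.mv_comm_base gD
  have ae : Commute a e := A.mv_comm_base gE
  have af : Commute a f := A.mv_comm_base gF
  have ag : Commute a g := A.mv_comm_base gG
  have ai : Commute a i := A.mv_comm_base gI
  have nec : e ≠ c := fun k => nef (k ▸ ccf)
  have ngc : g ≠ c := fun k => nfg (k ▸ ccf.symm)
  have nge : g ≠ e := fun k => nde (k ▸ cdg)
  have colg : Col D a c e g := (A.mv_col gC gE gG nec.symm (by simp [herm_six, vC, vE]; linear_combination h2)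
    (by simp [herm_six, vC, vG]; linear_combination h2) (by simp [herm_six, vE, vG])).mpr
      ⟨1, 1, by funext k; fin_cases k <;> simp [vC, vE, vG] <;> linear_combination -h2⟩
  -- the chart at `i`
  obtain ⟨I⟩ := L.chart i (A.mv_mem gI)
  obtain ⟨yC, gyC, eC⟩ := I.mv_surj (A.mv_mem gC) (fun k => nis ((show c = i from k) ▸ csc.symm)) cci.symm
  obtain ⟨yD, gyD, eD⟩ := I.mv_surj (A.mv_mem gD) (fun k => ncd ((show d = i from k).symm ▸ cci)) cdi.symm
  obtain ⟨yE, gyE, eE⟩ := I.mv_surj (A.mv_mem gE) (fun k => nde ((show e = i from k).symm ▸ cdi)) cei.symm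
  obtain ⟨yF, gyF, eF⟩ := I.mv_surj (A.mv_mem gF) (fun k => nef ((show f = i from k).symm ▸ cei)) cfi.symm
  obtain ⟨yG, gyG, eG⟩ := I.mv_surj (A.mv_mem gG) (fun k => nfg ((show g = i from k).symm ▸ cfi)) cgi.symm
  obtain ⟨yA, gyA, eA⟩ := I.mv_surj A.mem (A.mv_ne gI).symm ai.symm
  -- scale the chain
  have scal : ∀ {x y : Fin 6 → F}, Good y → h x y ≠ 0 → ∃ y', Good y' ∧ I.mv y' = I.mv y ∧ h x y' = 1 := by
    intro x y hy hxy
    refine ⟨h x y • y, hy.smul hF hxy, I.mv_smul hy hxy, ?_⟩
    rw [h_smul_right hF, mul_comm, norm_one hF hxy]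
  have nz : ∀ {x y : Fin 6 → F}, Good x → Good y → ¬ Commute (I.mv x) (I.mv y) → h x y ≠ 0 := fun hx hy k e' =>
    k ((I.mv_comm_iff hx hy).mpr e')
  obtain ⟨xD, gxD, eD', hCD⟩ := scal gyD (nz gyC gyD (by rw [eC, eD]; exact ncd))
  rw [eD] at eD'
  obtain ⟨xE, gxE, eE', hDE⟩ := scal gyE (nz gxD gyE (by rw [eD', eE]; exact nde))
  rw [eE] at eE'
  obtain ⟨xF, gxF, eF', hEF⟩ := scal gyF (nz gxE gyF (by rw [eE', eF]; exact nef))
  rw [eF] at eF'
  obtain ⟨xG, gxG, eG', hFG⟩ := scal gyG (nz gxF gyG (by rw [eF', eG]; exact nfg))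
  rw [eG] at eG'
  have one' : ∀ {x y : Fin 6 → F}, h x y = 1 → h y x = 1 := fun {x y} k => by
    rw [← h_swap hF x y, k, map_one]
  have o : ∀ {x y : Fin 6 → F}, Good x → Good y → Commute (I.mv x) (I.mv y) → h x y = 0 := fun hx hy k =>
    (I.mv_comm_iff hx hy).mp k
  have hCE := o gyC gxE (by rw [eC, eE']; exact cce)
  have hCF := o gyC gxF (by rw [eC, eF']; exact ccf)
  have hCG := o gyC gxG (by rw [eC, eG']; exact ccg)
  have hDF := o gxD gxF (by rw [eD', eF']; exact cdf)
  have hDG := o gxD gxG (by rw [eD', eG']; exact cdg)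
  have hEG := o gxE gxG (by rw [eE', eG']; exact ceg)
  -- no three of the line through `c` and `e` are collinear here
  have noI : ∀ {x y z : G}, Col D i x y z → z ≠ x → z ≠ y → Commute s x → Commute s y → Commute s z → False :=
    fun hcol zx zy k1 k2 k3 => nis (no_col L (A.mv_mem gI) (A.mv_mem gS) hcol zx zy k1 k2 k3)
  have hceg : ∀ c' d' : F, xG ≠ c' • yC + d' • xE := fun c' d' k => by
    have hne : I.mv yC ≠ I.mv xE := by rw [eC, eE']; exact nec.symm
    have := (I.mv_col gyC gxE gxG hne hCE hCG hEG).mpr ⟨c', d', k⟩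
    rw [eC, eE', eG'] at this
    exact noI this ngc nge csc cse csg
  have indCEG : LinearIndependent F ![yC, xE, xG] := (li_three hF).mpr fun p q r k => by
    by_cases hr : r = 0
    · rw [hr, zero_smul, add_zero] at k
      exact ⟨(I.mv_li_two gyC gxE (by rw [eC, eE']; exact nec.symm) p q k).1,
        (I.mv_li_two gyC gxE (by rw [eC, eE']; exact nec.symm) p q k).2, hr⟩
    · exfalso
      refine hceg (-(r⁻¹ * p)) (-(r⁻¹ * q)) ?_
      have := congrArg (fun z => r⁻¹ • z) k
      simp only [smul_add, smul_smul, inv_mul_cancel₀ hr, one_smul, smul_zero] at this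
      rw [neg_smul, neg_smul, ← neg_add]
      exact eq_neg_of_add_eq_zero_right this
  -- the point of `a`
  have hAC := o gyA gyC (by rw [eA, eC]; exact ac)
  have hAD := o gyA gxD (by rw [eA, eD']; exact ad)
  have hAE := o gyA gxE (by rw [eA, eE']; exact ae)
  have hAF := o gyA gxF (by rw [eA, eF']; exact af)
  have hAG := o gyA gxG (by rw [eA, eG']; exact ag)
  have colA := colg.perm L A.mem ngc nge
  obtain ⟨p, q, r, hA⟩ := I.span_of_perp gyC gxE gxG gyA hAC hAE hAG indCEG (fun m hm him k1 k2 k3 => by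
    rw [eC] at k1; rw [eE'] at k2; rw [eG'] at k3; rw [eA]
    exact colA.perp m hm k1 k2 k3)
  have hpq : p = q := by
    have := hAD
    rw [hA, h_add_left, h_add_left, h_smul_left, h_smul_left, h_smul_left, hCD, one' hDE, swap_zero hF hDG] at this
    linear_combination this - q * h2
  have hqr : q = r := by
    have := hAF
    rw [hA, h_add_left, h_add_left, h_smul_left, h_smul_left, h_smul_left, hCF, hEF, one' hFG] at this
    linear_combination this - r * h2
  subst hqr hpq
  have p0 : p ≠ 0 := fun k => gyA.1 (by rw [hA, k]; simp)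
  set xA := yC + xE + xG with hxA
  have hAe : yA = p • xA := by rw [hA, hxA, smul_add, smul_add]
  have gxA : Good xA := by
    have := gyA.smul hF (inv_ne_zero p0)
    rwa [hAe, smul_smul, inv_mul_cancel₀ p0, one_smul] at this
  have eA' : I.mv xA = a := by rw [← eA, hAe, I.mv_smul gxA p0]
  -- the member `b`
  have hli5 : LinearIndependent F ![yC, xD, xE, xF, xG] := by
    rw [Fintype.linearIndependent_iff]
    intro u hu
    simp only [Fin.sum_univ_five, Matrix.cons_val] at hu
    have k1 := congrArg (fun z => h z yC) hu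
    simp only [h_add_left, h_smul_left, h_zero_left hF, gyC.2, one' hCD, swap_zero hF hCE, swap_zero hF hCF,
      swap_zero hF hCG, mul_zero, mul_one, add_zero, zero_add] at k1
    have k2 := congrArg (fun z => h z xG) hu
    simp only [h_add_left, h_smul_left, h_zero_left hF, hCG, hDG, hEG, hFG, gxG.2, mul_zero, mul_one, add_zero,
      zero_add] at k2
    rw [k1, k2, zero_smul, zero_smul, add_zero, add_zero] at hu
    obtain ⟨u0, u2, u4⟩ := (li_three hF).mp indCEG _ _ _ hu
    intro k
    fin_cases k <;> assumption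
  obtain ⟨xB, bb, hB⟩ := exists_iso_vals hF hli5 ![1, 0, 0, 0, 0] gxA.2
    (fun k => by
      fin_cases k
      · show h xA yC = 0
        rw [hxA, h_add_left, h_add_left, gyC.2, swap_zero hF hCE, swap_zero hF hCG]; ring
      · show h xA xD = 0
        rw [hxA, h_add_left, h_add_left, hCD, one' hDE, swap_zero hF hDG]; linear_combination h2
      · show h xA xE = 0
        rw [hxA, h_add_left, h_add_left, hCE, gxE.2, swap_zero hF hEG]; ring
      · show h xA xF = 0
        rw [hxA, h_add_left, h_add_left, hCF, hEF, one' hFG]; linear_combination h2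
      · show h xA xG = 0
        rw [hxA, h_add_left, h_add_left, hCG, hEG, gxG.2]; ring)
    ![1, 0, 1, 0, 1] (by simp [Fin.sum_univ_five, hxA]) (by simp [Fin.sum_univ_five])
  have hBC : h xB yC = 1 := hB 0
  have hBD : h xB xD = 0 := hB 1
  have hBE : h xB xE = 0 := hB 2
  have hBF : h xB xF = 0 := hB 3
  have hBG : h xB xG = 0 := hB 4
  have hBA : h xB xA = 1 := by rw [hxA, h_add_right hF, h_add_right hF, hBC, hBE, hBG]; ring
  have gxB : Good xB := ⟨fun k => one_ne_zero (α := F) (by rw [← hBC, k, h_zero_left hF]), bb⟩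
  set b := I.mv xB
  have hb : b ∈ D := I.mv_mem gxB
  have cm : ∀ {x : Fin 6 → F} {m : G}, Good x → I.mv x = m → h xB x = 0 → Commute b m := fun hx em k => by
    rw [← em]; exact (I.mv_comm_iff gxB hx).mpr k
  refine ⟨{ b := b, hb := hb, nab := fun k => ?_, nbc := fun k => ?_, bd := cm gxD eD' hBD, be := cm gxE eE' hBE,
            bf := cm gxF eF' hBF, bg := cm gxG eG' hBG, bi := (I.mv_comm_base gxB).symm, nov := ?_ }⟩
  · rw [← eA'] at k
    exact one_ne_zero (α := F) (hBA.symm.trans ((I.mv_comm_iff gxB gxA).mp k.symm))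
  · have k' : Commute b c := k
    rw [show (c : G) = I.mv yC from eC.symm] at k'
    exact one_ne_zero (α := F) (hBC.symm.trans ((I.mv_comm_iff gxB gyC).mp k'))
  intro v hv va vb vc vd ve vf vg
  -- the chain of six
  let Lc : (Fin 6 → F) → (Fin 6 → F) := fun x =>
    x 0 • xA + x 1 • xB + x 2 • yC + x 3 • xD + x 4 • xE + x 5 • xF
  have hAB : h xA xB = 1 := one' hBA
  have hAC' : h xA yC = 0 := by rw [hxA, h_add_left, h_add_left, gyC.2, swap_zero hF hCE, swap_zero hF hCG]; ring
  have hAD' : h xA xD = 0 := o gxA gxD (by rw [eA', eD']; exact ad)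
  have hAE' : h xA xE = 0 := o gxA gxE (by rw [eA', eE']; exact ae)
  have hAF' : h xA xF = 0 := o gxA gxF (by rw [eA', eF']; exact af)
  have hG6 : ∀ x y, h (Lc x) (Lc y) = gram x y := fun x y => by
    simp only [Lc, h_add_left, h_add_right hF, h_smul_left, h_smul_right hF, frob_eq hF, gxA.2, gxB.2, gyC.2,
      gxD.2, gxE.2, gxF.2, hAB, hBA, hAC', swap_zero hF hAC', hAD', swap_zero hF hAD', hAE', swap_zero hF hAE',
      hAF', swap_zero hF hAF', hBC, one' hBC, hBD, swap_zero hF hBD, hBE, swap_zero hF hBE, hBF, swap_zero hF hBF,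
      hCD, one' hCD, hCE, swap_zero hF hCE, hCF, swap_zero hF hCF, hDE, one' hDE, hDF, swap_zero hF hDF, hEF,
      one' hEF, gram]
    ring
  have Linj : ∀ x, Lc x = 0 → x = 0 := fun x k => by
    have kk : ∀ y, gram x y = 0 := fun y => by rw [← hG6, k, h_zero_left hF]
    have k0 := kk ![1, 0, 0, 0, 0, 0]
    have k1 := kk ![0, 1, 0, 0, 0, 0]
    have k2 := kk ![0, 0, 1, 0, 0, 0]
    have k3 := kk ![0, 0, 0, 1, 0, 0]
    have k4 := kk ![0, 0, 0, 0, 1, 0]
    have k5 := kk ![0, 0, 0, 0, 0, 1]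
    simp [gram] at k0 k1 k2 k3 k4 k5
    funext j
    fin_cases j <;> simp <;> grind
  have Lsm : ∀ x y (t : F), Lc x + t • Lc y = Lc (x + t • y) := fun x y t => by
    simp only [Lc, Pi.add_apply, Pi.smul_apply, smul_eq_mul]
    module
  let InR : (Fin 6 → F) → Prop := fun x => Good (Lc x) ∧ Commute v (I.mv (Lc x))
  have clo : ∀ {x y : Fin 6 → F} (z : Fin 6 → F), InR x → InR y → z = x + gram x y • y → InR z := by
    intro x y z hx hy hz
    have e : Lc z = Lc x + h (Lc x) (Lc y) • Lc y := by rw [hG6, Lsm, hz]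
    refine ⟨e ▸ refl_good hF hx.1 hy.1, ?_⟩
    rw [e, ← I.mv_refl L hx.1 hy.1]
    exact (hy.2.mul_right hx.2).mul_right hy.2
  have mk : ∀ {y : Fin 6 → F} {m : G} (x : Fin 6 → F), Lc x = y → Good y → I.mv y = m → Commute v m → InR x :=
    fun x ex hy em k => by subst ex; exact ⟨hy, em.symm ▸ k⟩
  have rA : InR ![1, 0, 0, 0, 0, 0] := mk _ (by simp [Lc]) gxA eA' va
  have rB : InR ![0, 1, 0, 0, 0, 0] := mk _ (by simp [Lc]) gxB rfl vb
  have rC : InR ![0, 0, 1, 0, 0, 0] := mk _ (by simp [Lc]) gyC eC vc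
  have rD : InR ![0, 0, 0, 1, 0, 0] := mk _ (by simp [Lc]) gxD eD' vd
  have rE : InR ![0, 0, 0, 0, 1, 0] := mk _ (by simp [Lc]) gxE eE' ve
  have rF : InR ![0, 0, 0, 0, 0, 1] := mk _ (by simp [Lc]) gxF eF' vf
  have rG : InR ![1, 0, 1, 0, 1, 0] := mk _ (by
    simp [Lc, hxA]
    funext j
    simp only [Pi.add_apply]
    linear_combination (yC j + xE j) * h2) gxG eG' vg
  -- a further member of the line through `c` and `e`
  obtain ⟨P1, P2, P3, c1, c2, c3, nd5, com5, -⟩ :=
    five L A.mem (A.mv_mem gC) (A.mv_mem gE) (A.mv_ne gC) (A.mv_ne gE) nec.symm ac ae cce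
  obtain ⟨P, cP, Pc, Pe, Pg⟩ : ∃ P, Col D a c e P ∧ P ≠ c ∧ P ≠ e ∧ P ≠ g := by
    simp only [List.nodup_cons, List.mem_cons, List.not_mem_nil, or_false, not_or, List.nodup_nil, and_true,
      not_false_iff] at nd5
    by_cases k : P1 = g
    · exact ⟨P2, c2, Ne.symm nd5.2.1.2.2.1, Ne.symm nd5.2.2.1.2.1, fun k' => nd5.2.2.2.1.1 (k.trans k'.symm)⟩
    · exact ⟨P1, c1, Ne.symm nd5.2.1.2.1, Ne.symm nd5.2.2.1.1, k⟩
  obtain ⟨zP, gzP, ezP⟩ := A.mv_surj cP.hz cP.za cP.caz
  obtain ⟨s1, s2, hzP⟩ := (A.mv_col gC gE gzP nec.symm ((A.mv_comm_iff gC gE).mp cce)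
    ((A.mv_comm_iff gC gzP).mp (by rw [ezP]; exact cP.cxz))
    ((A.mv_comm_iff gE gzP).mp (by rw [ezP]; exact cP.cyz))).mp (by rw [ezP]; exact cP)
  have cPi : Commute P i := by
    rw [← ezP]
    refine (A.mv_comm_iff gzP gI).mpr ?_
    rw [hzP, h_add_left, h_smul_left, h_smul_left, (A.mv_comm_iff gC gI).mp cci, (A.mv_comm_iff gE gI).mp cei]
    ring
  have cPs : Commute s P := by
    rw [← ezP]
    refine (A.mv_comm_iff gS gzP).mpr ?_
    rw [hzP, h_add_right hF, h_smul_right hF, h_smul_right hF, (A.mv_comm_iff gS gC).mp csc,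
      (A.mv_comm_iff gS gE).mp cse]
    ring
  have cPg : Commute P g := colg.perp P cP.hz cP.caz cP.cxz cP.cyz |>.symm
  obtain ⟨xP, gxP, exP⟩ := I.mv_surj cP.hz (fun k => nis ((show P = i from k) ▸ cPs.symm)) cPi.symm
  have indACE : LinearIndependent F ![xA, yC, xE] := (li_three hF).mpr fun p q r k => by
    have k' : (p + q) • yC + (p + r) • xE + p • xG = 0 := by
      rw [← k, hxA, smul_add, smul_add, add_smul, add_smul]; abel
    obtain ⟨e1, e2, e3⟩ := (li_three hF).mp indCEG _ _ _ k'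
    rw [e3, zero_add] at e1 e2
    exact ⟨e3, e1, e2⟩
  obtain ⟨t0, t1, t2, hP⟩ := I.span_of_perp gxA gyC gxE gxP
    (o gxP gxA (by rw [exP, eA']; exact cP.caz.symm)) (o gxP gyC (by rw [exP, eC]; exact cP.cxz.symm))
    (o gxP gxE (by rw [exP, eE']; exact cP.cyz.symm)) indACE (fun m hm him k1 k2 k3 => by
      rw [eA'] at k1; rw [eC] at k2; rw [eE'] at k3; rw [exP]
      exact cP.perp m hm k1 k2 k3)
  have neq : ∀ {x y : Fin 6 → F} {m n : G}, I.mv x = m → I.mv y = n → m ≠ n → I.mv x ≠ I.mv y := fun ex ey k => by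
    rw [ex, ey]; exact k
  have hPG := o gxP gxG (by rw [exP, eG']; exact cPg)
  have hPC := o gxP gyC (by rw [exP, eC]; exact cP.cxz.symm)
  have hPE := o gxP gxE (by rw [exP, eE']; exact cP.cyz.symm)
  have T0 : t0 ≠ 0 := fun k => by
    rw [k, zero_smul, zero_add] at hP
    have := (I.mv_col gyC gxE gxP (neq eC eE' nec.symm) hCE (swap_zero hF hPC) (swap_zero hF hPE)).mpr ⟨_, _, hP⟩
    rw [eC, eE', exP] at this
    exact noI this Pc Pe csc cse cPs
  have T1 : t1 ≠ 0 := fun k => by
    rw [k, zero_smul, add_zero] at hP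
    have := (I.mv_col gxA gxE gxP (neq eA' eE' (A.mv_ne gE).symm) hAE'
      (swap_zero hF (o gxP gxA (by rw [exP, eA']; exact cP.caz.symm))) (swap_zero hF hPE)).mpr ⟨_, _, hP⟩
    rw [eA', eE', exP] at this
    exact noI this cP.za Pe cas.symm cse cPs
  have T2 : t2 ≠ 0 := fun k => by
    rw [k, zero_smul, add_zero] at hP
    have := (I.mv_col gxA gyC gxP (neq eA' eC (A.mv_ne gC).symm) hAC'
      (swap_zero hF (o gxP gxA (by rw [exP, eA']; exact cP.caz.symm))) (swap_zero hF hPC)).mpr ⟨_, _, hP⟩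
    rw [eA', eC, exP] at this
    exact noI this cP.za Pc cas.symm csc cPs
  have T01 : t0 ≠ t1 := fun k => by
    have k' : xP = t0 • xG + (t2 + t0) • xE := by
      rw [hP, hxA, ← k]
      funext j
      simp only [Pi.add_apply, Pi.smul_apply, smul_eq_mul]
      linear_combination (t0 * yC j) * h2
    have := (I.mv_col gxG gxE gxP (neq eG' eE' nge) (swap_zero hF hEG) (swap_zero hF hPG) (swap_zero hF hPE)).mpr
      ⟨_, _, k'⟩
    rw [eG', eE', exP] at this
    exact noI this Pg Pe csg cse cPs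
  have T02 : t0 ≠ t2 := fun k => by
    have k' : xP = t0 • xG + (t1 + t0) • yC := by
      rw [hP, hxA, ← k]
      funext j
      simp only [Pi.add_apply, Pi.smul_apply, smul_eq_mul]
      linear_combination (t0 * xE j) * h2
    have := (I.mv_col gxG gyC gxP (neq eG' eC ngc) (swap_zero hF hCG) (swap_zero hF hPG) (swap_zero hF hPC)).mpr
      ⟨_, _, k'⟩
    rw [eG', eC, exP] at this
    exact noI this Pg Pc csg csc cPs
  have T12 : t1 ≠ t2 := fun k => by
    have k' : xP = (t0 + t1) • xA + t1 • xG := by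
      rw [hP, hxA, ← k]
      funext j
      simp only [Pi.add_apply, Pi.smul_apply, smul_eq_mul]
      linear_combination -(t1 * xG j) * h2
    have := (I.mv_col gxA gxG gxP (neq eA' eG' (A.mv_ne gG).symm) (o gxA gxG (by rw [eA', eG']; exact ag))
      (swap_zero hF (o gxP gxA (by rw [exP, eA']; exact cP.caz.symm))) (swap_zero hF hPG)).mpr ⟨_, _, k'⟩
    rw [eA', eG', exP] at this
    exact noI this cP.za Pg cas.symm csg cPs
  set y := t0⁻¹ * t1 with hy
  obtain ⟨y0, y1⟩ : y ≠ 0 ∧ y ≠ 1 := ⟨mul_ne_zero (inv_ne_zero T0) T1, fun k => T01 (by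
    have := congrArg (fun z => t0 * z) k
    simpa [hy, ← mul_assoc, mul_inv_cancel₀ T0] using this.symm)⟩
  obtain ⟨yq, -, -, -, -, y3, hally⟩ := omega_facts (hF := hF) y0 y1
  have hy2 : t0⁻¹ * t2 = y * y := by
    rcases hally (t0⁻¹ * t2) with k | k | k | k
    · exact absurd k (mul_ne_zero (inv_ne_zero T0) T2)
    · exact absurd ((eq_inv_mul_iff_mul_eq₀ T0).mp k.symm) (by simpa using T02)
    · exact absurd (mul_left_cancel₀ (inv_ne_zero T0) k) (Ne.symm T12)
    · exact k
  have rP : InR ![1, 0, y, 0, y * y, 0] := by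
    refine mk _ ?_ (gxP.smul hF (inv_ne_zero T0)) ((I.mv_smul gxP (inv_ne_zero T0)).trans exP) ?_
    · rw [hP, smul_add, smul_add, smul_smul, smul_smul, smul_smul, inv_mul_cancel₀ T0, hy2]
      simp [Lc, hy]
    · exact (cP.perp v hv va.symm vc.symm ve.symm).symm
  -- the certificate
  have r1 : InR ![y, 0, y * y, 0, 1, 1] := clo _ rF rP (by
    funext j; fin_cases j <;> simp [gram] <;> grind)
  have r2 : InR ![y * y, 0, y, 0, 0, 1] := clo _ rG r1 (by
    funext j; fin_cases j <;> simp [gram] <;> grind)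
  have rX : InR ![y * y, 1, y, 0, 0, 1] := clo _ rB r2 (by
    funext j; fin_cases j <;> simp [gram] <;> grind)
  have r3 : InR ![y, 1, y * y, 0, 1, 0] := clo _ rB rP (by
    funext j; fin_cases j <;> simp [gram] <;> grind)
  have r4 : InR ![0, 0, 1, 1, 0, 0] := clo _ rC rD (by
    funext j; fin_cases j <;> simp [gram] <;> grind)
  have r5 : InR ![y, 1, 0, y * y, 1, 0] := clo _ r3 r4 (by
    funext j; fin_cases j <;> simp [gram] <;> grind)
  have r6 : InR ![y, 1, 0, y * y, 1, 1] := clo _ rF r5 (by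
    funext j; fin_cases j <;> simp [gram] <;> grind)
  have r7 : InR ![1, y * y, 0, y, y, y * y] := clo _ rE r6 (by
    funext j; fin_cases j <;> simp [gram] <;> grind)
  have rY : InR ![y * y, y, 0, 0, 1, y] := clo _ rD r7 (by
    funext j; fin_cases j <;> simp [gram] <;> grind)
  set vP : Fin 6 → F := ![1, 0, y, 0, y * y, 0]
  set vX : Fin 6 → F := ![y * y, 1, y, 0, 0, 1]
  set vY : Fin 6 → F := ![y * y, y, 0, 0, 1, y]
  have ne' : ∀ {x x' : Fin 6 → F}, InR x → InR x' → (∀ t : F, x ≠ t • x') → I.mv (Lc x) ≠ I.mv (Lc x') := by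
    intro x x' hx hx' k e'
    obtain ⟨t, ht⟩ := (I.mv_eq_iff hx.1 hx'.1).mp e'
    refine k t (sub_eq_zero.mp (Linj _ ?_))
    rw [sub_eq_add_neg, ← neg_one_smul F (t • x'), smul_smul, ← Lsm, ht, ← add_smul]
    simp
  have colv : Col D i (I.mv (Lc vP)) (I.mv (Lc vX)) (I.mv (Lc vY)) :=
    (I.mv_col rP.1 rX.1 rY.1 (ne' rP rX fun t k => by
      have k5 := congrFun k 5
      have k0 := congrFun k 0
      simp [vP, vX] at k5 k0
      simp [← k5] at k0)
      (by rw [hG6]; simp [gram, vP, vX]; grind) (by rw [hG6]; simp [gram, vP, vY]; grind)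
      (by rw [hG6]; simp [gram, vX, vY]; grind)).mpr ⟨y, y, by
        simp only [Lc, vP, vX, vY, Matrix.cons_val]
        match_scalars <;> grind⟩
  exact no_col L (A.mv_mem gI) hv colv (ne' rY rP fun t k => by simpa [vP, vY, y0] using congrFun k 1)
    (ne' rY rX fun t k => by
      have k4 := congrFun k 4
      simp [vX, vY] at k4)
    rP.2 rX.2 rY.2

end CfsgLib.Fi22Loc.Rec
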