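import Cfsg.Agent.Lib.Fi22Loc.Rec.Embed
import Cfsg.Agent.Lib.Fi22Loc.Member.Charts
import Cfsg.Agent.Lib.Fi22Rec.Cover
import Cfsg.Agent.Lib.ThreeTrans.M22.InvolClasses
import Cfsg.Agent.Lib.SUShort.Counts
import Cfsg.Agent.Lib.CosetEnum.Fi22Aut.Main
import Cfsg.Agent.S5462

/-!
The embedded Fi22 and its normaliser: centralisers of members normalise it and the class meets the normaliser in
the embedded class.
-/

set_option autoImplicit false
set_option linter.unusedSectionVars false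
set_option maxRecDepth 100000

namespace CfsgLib.Fi22Loc.Rec

open Matrix Cfsg CfsgLib CfsgLib.UnitaryTransvection CfsgLib.UnitarySimple CfsgThreeTrans CfsgThreeTrans.M22
open CfsgLib.CosetEnum
open CfsgFi22Rec (DP)

local notation "a₀" => Fi22Class.ta

/-- The order of a group with a kernel of two elements. -/
theorem card_double {X Y : Type*} [Group X] [Group Y] [Finite X] (ψ : X →* Y) (sur : Function.Surjective ψ) (x : X)
    (x1 : x ≠ 1) (ker : ∀ g, ψ g = 1 ↔ g = 1 ∨ g = x) : Nat.card X = 2 * Nat.card Y := by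
  have hk : (ψ.ker : Set X) = {1, x} := Set.ext fun g => by simpa using ker g
  have h2 : Nat.card ψ.ker = 2 := by
    rw [show Nat.card ψ.ker = (ψ.ker : Set X).ncard from rfl, hk, Set.ncard_pair x1.symm]
  rw [← ψ.ker.card_mul_index, h2, Subgroup.index_ker, MonoidHom.range_eq_top.mpr sur, Subgroup.card_top]

/-- Two generators of the presentation which commute. -/
theorem gen_commute {x y : ℕ} (hxy : (x, y) ∈ [(0, 2), (0, 3), (0, 4), (0, 5), (0, 6), (0, 7), (0, 8), (1, 3)]) :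
    Commute (presFi22.σ x) (presFi22.σ y) := by
  have h : coxWord x y 2 ∈ presFi22.rels ∨ coxWord y x 2 ∈ presFi22.rels := by
    have key : ∀ e ∈ ([(0, 2), (0, 3), (0, 4), (0, 5), (0, 6), (0, 7), (0, 8), (1, 3)] : List (ℕ × ℕ)),
        coxWord e.1 e.2 2 ∈ presFi22.rels ∨ coxWord e.2 e.1 2 ∈ presFi22.rels := by
      rw [Fi3510.rels_eq]; decide +kernel
    exact key (x, y) hxy
  have one : ∀ {p q : ℕ}, coxWord p q 2 ∈ presFi22.rels → Commute (presFi22.σ p) (presFi22.σ q) := fun {p q} h => by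
    have e := presFi22.rels_one h
    rw [prod_coxWord, pow_two] at e
    have e' := inv_eq_of_mul_eq_one_right e
    rw [_root_.mul_inv_rev, inv_eq_of_mul_eq_one_right (presFi22.σ_sq p),
      inv_eq_of_mul_eq_one_right (presFi22.σ_sq q)] at e'
    exact e'.symm
  exact h.elim one fun k => (one k).symm

/-- The generators are transpositions. -/
theorem gen_mem {i : ℕ} (hi : i < 9) : presFi22.σ i ∈ DP :=
  (Fi22Aut.pt_gen i hi).elim fun g hg => isConj_iff.mpr ⟨g, hg.1⟩

/-- The class generates a group of type M(22). -/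
theorem facts22 : IsThreeTranspositionGroup DP ∧ IsPrimitiveUnderConj DP :=
  haveI := CfsgThreeTrans.Exist.finite22
  ⟨⟨Fi22Class.facts.2.1.1, fun g d hd => cls_conj Fi22Class.facts.2.1 g hd, Fi22Class.facts.2.1.2.2⟩,
    M22.primitive Fi22Class.facts.2.1 CfsgThreeTrans.Exist.type22_pres⟩

variable {F : Type} [Field F] [Fintype F] [DecidableEq F] {hF : Fintype.card F = 2 ^ 2}
variable {G : Type*} [Group G] {D : Set G} {a : G}

/-- The presented group inside, the base going to a member. -/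
structure Emb (D : Set G) (hF : Fintype.card F = 2 ^ 2) (a : G) where
  loc : Local D hF
  ha : a ∈ D
  f : presFi22.Grp →* G
  inj : Function.Injective f
  base : f a₀ = a
  gens : ∀ i < 9, f (presFi22.σ i) ∈ D

theorem Emb.nonempty [Finite G] (L : Local D hF) (ha : a ∈ D) : Nonempty (Emb D hF a) := by
  obtain ⟨f, h1, h2, h3⟩ := exists_emb L ha
  exact ⟨⟨L, ha, f, h1, h2, h3⟩⟩

namespace Emb

variable (E : Emb D hF a)
include E

/-- The image. -/
def K : Subgroup G := E.f.range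

/-- The image of the class. -/
def DK : Set G := E.f '' DP

/-- The normaliser. -/
def N : Subgroup G := Subgroup.normalizer (E.K : Set G)

theorem K_le : E.K ≤ E.N := Subgroup.le_normalizer

theorem d_mem : a ∈ E.DK := ⟨a₀, mem_conjugatesOf_self, E.base⟩

theorem DK_sub : E.DK ⊆ D := by
  rintro _ ⟨x, hx, rfl⟩
  obtain ⟨u, rfl⟩ := isConj_iff.mp hx
  rw [map_mul, map_mul, map_inv, E.base]
  exact E.loc.conj _ _ E.ha

theorem DK_K : ∀ x ∈ E.DK, x ∈ E.K := by rintro _ ⟨x, -, rfl⟩; exact ⟨x, rfl⟩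

theorem DK_N {x : G} (hx : x ∈ E.DK) : x ∈ E.N := E.K_le (E.DK_K x hx)

theorem DK_conj {g x : G} (hg : g ∈ E.K) (hx : x ∈ E.DK) : g * x * g⁻¹ ∈ E.DK := by
  obtain ⟨u, rfl⟩ := hg
  obtain ⟨p, hp, rfl⟩ := hx
  obtain ⟨v, rfl⟩ := isConj_iff.mp hp
  exact ⟨u * (v * a₀ * v⁻¹) * u⁻¹, isConj_iff.mpr ⟨u * v, by group⟩, by simp⟩

theorem DK_trans {x x' : G} (hx : x ∈ E.DK) (hx' : x' ∈ E.DK) : ∃ g ∈ E.K, g * x * g⁻¹ = x' := by
  obtain ⟨p, hp, rfl⟩ := hx
  obtain ⟨p', hp', rfl⟩ := hx'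
  obtain ⟨u, rfl⟩ := isConj_iff.mp hp
  obtain ⟨v, rfl⟩ := isConj_iff.mp hp'
  exact ⟨E.f (v * u⁻¹), ⟨_, rfl⟩, by rw [← map_inv, ← map_mul, ← map_mul]; congr 1; group⟩

theorem comm_base {p : presFi22.Grp} (h : Commute a₀ p) : Commute a (E.f p) := by
  have := h.map E.f
  rwa [E.base] at this

variable [Finite G]

/-- The derived centraliser of the base is inside, as an image. -/
theorem LC_base {g : G} (hg : g ∈ LC a) : ∃ x, Commute a₀ x ∧ E.f x = g := by
  classical
  haveI := CfsgThreeTrans.Exist.finite22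
  obtain ⟨K', iK, iK', iKd, hK', L'⟩ := CfsgFi22Rec.local_pres
  obtain ⟨A'⟩ := L'.chart a₀ mem_conjugatesOf_self
  obtain ⟨A⟩ := E.loc.chart a E.ha
  set C0 := Subgroup.centralizer ({a₀} : Set presFi22.Grp) with hC0
  set Ca := Subgroup.centralizer ({a} : Set G)
  let j0 : ↥C0 →* ↥Ca := (E.f.comp C0.subtype).codRestrict Ca fun x => mem_cent.mpr (E.comm_base (mem_cent.mp x.2))
  have hmem : ∀ x : ↥C0, E.f x ∈ LC a := fun x => by
    refine ⟨j0 x, ?_, rfl⟩
    have hx : x ∈ commutator ↥C0 := A'.perfect ▸ Subgroup.mem_top x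
    have h1 : j0 x ∈ (commutator ↥C0).map j0 := ⟨x, hx, rfl⟩
    rw [commutator_def, Subgroup.map_commutator] at h1
    rw [commutator_def]
    exact Subgroup.commutator_mono le_top le_top h1
  let j : ↥C0 → ↥(LC a) := fun x => ⟨E.f x, hmem x⟩
  have c0 := card_double A'.ψ A'.sur ⟨a₀, mem_cent.mpr (Commute.refl _)⟩
    (fun e => A'.hne (congrArg Subtype.val e)) fun g => (A'.ker g).trans
      (or_congr ⟨fun e => Subtype.ext e, fun e => congrArg Subtype.val e⟩
        ⟨fun e => Subtype.ext e, fun e => congrArg Subtype.val e⟩)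
  have c1 := card_double A.ψ A.sur ⟨a, A.own⟩
    (fun e => A.hne (congrArg Subtype.val e)) fun g => (A.ker g).trans
      (or_congr ⟨fun e => Subtype.ext e, fun e => congrArg Subtype.val e⟩
        ⟨fun e => Subtype.ext e, fun e => congrArg Subtype.val e⟩)
  obtain ⟨t⟩ := CfsgLib.SUShort.psu_congr
    (FiniteField.ringEquivOfCardEq (show Fintype.card K' = Fintype.card F by rw [hK', hF])) 6 2
  have hb : Function.Bijective j := (Nat.bijective_iff_injective_and_card _).mpr
    ⟨fun x x' e => Subtype.ext (E.inj (congrArg Subtype.val e)), by rw [c0, c1, Nat.card_congr t.toEquiv]⟩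
  obtain ⟨x, hx⟩ := hb.2 ⟨g, hg⟩
  exact ⟨x, mem_cent.mp x.2, congrArg Subtype.val hx⟩

/-- The image of the centraliser of the base is in the derived centraliser. -/
theorem comm_LC {x : presFi22.Grp} (h : Commute a₀ x) : E.f x ∈ LC a := by
  classical
  obtain ⟨K', iK, iK', iKd, hK', L'⟩ := CfsgFi22Rec.local_pres
  obtain ⟨A'⟩ := L'.chart a₀ mem_conjugatesOf_self
  let j0 : ↥(Subgroup.centralizer ({a₀} : Set presFi22.Grp)) →* ↥(Subgroup.centralizer ({a} : Set G)) :=
    (E.f.comp (Subgroup.subtype _)).codRestrict _ fun y => mem_cent.mpr (E.comm_base (mem_cent.mp y.2))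
  refine ⟨j0 ⟨x, mem_cent.mpr h⟩, ?_, rfl⟩
  have hx : (⟨x, mem_cent.mpr h⟩ : ↥(Subgroup.centralizer ({a₀} : Set presFi22.Grp))) ∈ commutator _ :=
    A'.perfect ▸ Subgroup.mem_top _
  have h1 : j0 ⟨x, mem_cent.mpr h⟩ ∈ (commutator _).map j0 := ⟨_, hx, rfl⟩
  rw [commutator_def, Subgroup.map_commutator] at h1
  rw [commutator_def]
  exact Subgroup.commutator_mono le_top le_top h1

theorem LC_base_K {g : G} (hg : g ∈ LC a) : g ∈ E.K := by
  obtain ⟨x, -, rfl⟩ := E.LC_base hg
  exact ⟨x, rfl⟩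

/-- Members commuting with the base lie in the image of the class. -/
theorem near_base {y : G} (hy : y ∈ D) (hc : Commute a y) : y ∈ E.DK := by
  by_cases e : y = a
  · rw [e]; exact E.d_mem
  obtain ⟨A⟩ := E.loc.chart a E.ha
  haveI := CfsgThreeTrans.Exist.finite22
  obtain ⟨K', iK, iK', iKd, hK', L'⟩ := CfsgFi22Rec.local_pres
  obtain ⟨A'⟩ := L'.chart a₀ mem_conjugatesOf_self
  -- some member of the image commuting with the base
  let v0 : Iso K' := ⟨![1, 1, 0, 0, 0, 0], fun k => by simpa using congrFun k 0, by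
    simp [Cfsg.hermForm, Fin.sum_univ_six, CfsgThreeTrans.M22.add_self hK']⟩
  have h3 : E.f (A'.pnt v0) ∈ E.DK := ⟨_, A'.pnt_mem v0, rfl⟩
  have c3 : Commute a (E.f (A'.pnt v0)) := E.comm_base (A'.pnt_comm v0)
  have n3 : E.f (A'.pnt v0) ≠ a := fun k => A'.pnt_ne v0 (E.inj (k.trans E.base.symm))
  obtain ⟨u, hu⟩ := A.pnt_surj (E.DK_sub h3) n3 c3
  obtain ⟨w, hw⟩ := A.pnt_surj hy e hc
  obtain ⟨m, hm⟩ := UnitaryTransConj.su_trans hF (by norm_num) u.2.1 w.2.1 u.2.2 w.2.2
  obtain ⟨g, hg⟩ := A.sur (QuotientGroup.mk' _ m)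
  have := A.pnt_conj E.loc g hg u w (c := 1) (by rw [one_smul]; exact hm)
  rw [hu, hw] at this
  rw [← this]
  exact E.DK_conj (E.LC_base_K g.2) h3

/-- Members commuting with a member of the image lie in the image of the class. -/
theorem near {x y : G} (hx : x ∈ E.DK) (hy : y ∈ D) (hc : Commute x y) : y ∈ E.DK := by
  obtain ⟨k, hk, rfl⟩ := E.DK_trans E.d_mem hx
  have hy' : k⁻¹ * y * k⁻¹⁻¹ ∈ D := E.loc.conj _ _ hy
  have := E.DK_conj hk (E.near_base hy' (by
    show a * (k⁻¹ * y * k⁻¹⁻¹) = k⁻¹ * y * k⁻¹⁻¹ * a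
    calc a * (k⁻¹ * y * k⁻¹⁻¹) = k⁻¹ * (k * a * k⁻¹ * y) * k := by group
      _ = k⁻¹ * (y * (k * a * k⁻¹)) * k := by rw [hc.eq]
      _ = _ := by group))
  simpa [mul_assoc] using this

/-- The derived centraliser of a member of the image is inside. -/
theorem LC_K {x g : G} (hx : x ∈ E.DK) (hg : g ∈ LC x) : g ∈ E.K := by
  obtain ⟨k, hk, rfl⟩ := E.DK_trans E.d_mem hx
  have h : (MulAut.conj k) ((MulAut.conj k⁻¹) g) ∈ LC (MulAut.conj k a) := by
    have e : (MulAut.conj k) ((MulAut.conj k⁻¹) g) = g := by simp [mul_assoc]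
    rw [e]; exact hg
  have := E.LC_base_K ((CfsgLib.Fi22Loc.LC_map _ _ _).mp h)
  have := mul_mem (mul_mem hk this) (inv_mem hk)
  simpa [mul_assoc] using this

/-- The centraliser of the base normalises the image. -/
theorem cent_base {g : G} (hg : Commute a g) : g ∈ E.N := by
  haveI := CfsgThreeTrans.Exist.finite22
  have ga : g * a * g⁻¹ = a := mul_inv_eq_iff_eq_mul.mpr hg.symm.eq
  have cj : ∀ {p q : G}, Commute p q → Commute (g * p * g⁻¹) (g * q * g⁻¹) := fun {p q} h =>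
    h.map (MulAut.conj g).toMonoidHom
  have h0 : ∀ i < 9, i ≠ 1 → g * E.f (presFi22.σ i) * g⁻¹ ∈ E.DK := fun i hi i1 => by
    refine E.near_base (E.loc.conj g _ (E.gens i hi)) ?_
    by_cases i0 : i = 0
    · rw [i0, ← U62Mult.ta_eq, E.base, ga]
    · have c : Commute a (E.f (presFi22.σ i)) := by
        refine E.comm_base ?_
        rw [U62Mult.ta_eq]
        exact gen_commute (by interval_cases i <;> simp_all)
      have := cj c
      rwa [ga] at this
  have hgen : ∀ i < 9, g * E.f (presFi22.σ i) * g⁻¹ ∈ E.K := fun i hi => by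
    by_cases i1 : i = 1
    · subst i1
      exact E.DK_K _ (E.near (h0 3 (by norm_num) (by norm_num)) (E.loc.conj g _ (E.gens 1 hi))
        (cj ((gen_commute (x := 1) (y := 3) (by simp)).symm.map E.f)))
    · exact E.DK_K _ (h0 i hi i1)
  have hle : E.K.map (MulAut.conj g).toMonoidHom ≤ E.K := by
    rw [show E.K = E.f.range from rfl, MonoidHom.range_eq_map, ← presFi22.gen_closure, MonoidHom.map_closure,
      MonoidHom.map_closure, Subgroup.closure_le]
    rintro _ ⟨_, ⟨_, ⟨i, hi, rfl⟩, rfl⟩, rfl⟩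
    rw [← MonoidHom.map_closure, presFi22.gen_closure, ← MonoidHom.range_eq_map]
    exact hgen i hi
  have heq : E.K.map (MulAut.conj g).toMonoidHom = E.K := Subgroup.eq_of_le_of_card_ge hle
    (le_of_eq (Subgroup.card_map_of_injective (MulAut.conj g).injective).symm)
  refine Subgroup.mem_normalizer_iff.mpr fun z => ?_
  conv_rhs => rw [← heq]
  exact ⟨fun hz => ⟨z, hz, rfl⟩, fun ⟨w, hw, e⟩ => by
    have : w = z := (MulAut.conj g).injective e
    exact this ▸ hw⟩

/-- The centraliser of a member of the image normalises the image. -/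
theorem cent_mem {x g : G} (hx : x ∈ E.DK) (hg : Commute x g) : g ∈ E.N := by
  obtain ⟨k, hk, rfl⟩ := E.DK_trans E.d_mem hx
  have : k⁻¹ * g * k ∈ E.N := E.cent_base (by
    show a * (k⁻¹ * g * k) = k⁻¹ * g * k * a
    calc a * (k⁻¹ * g * k) = k⁻¹ * (k * a * k⁻¹ * g) * k := by group
      _ = k⁻¹ * (g * (k * a * k⁻¹)) * k := by rw [hg.eq]
      _ = _ := by group)
  have := mul_mem (mul_mem (E.K_le hk) this) (inv_mem (E.K_le hk))
  simpa [mul_assoc] using this

/-- The class meets the normaliser in the image of the class. -/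
theorem class_inter {y : G} (hy : y ∈ D) (hN : y ∈ E.N) : y ∈ E.DK := by
  classical
  haveI := CfsgThreeTrans.Exist.finite22
  have yy := (E.loc.mem_one hy).1
  have yi : y⁻¹ = y := inv_eq_of_mul_eq_one_right yy
  have mem : ∀ x, y * E.f x * y⁻¹ ∈ E.K := fun x => (Subgroup.mem_normalizer_iff.mp hN _).mp ⟨x, rfl⟩
  choose φ0 hφ0 using mem
  have inv0 : ∀ x, φ0 (φ0 x) = x := fun x => E.inj (by
    rw [hφ0, hφ0, yi]
    calc y * (y * E.f x * y) * y = y * y * E.f x * (y * y) := by simp only [mul_assoc]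
      _ = E.f x := by rw [yy, one_mul, mul_one])
  let φ : MulAut presFi22.Grp :=
    { toFun := φ0, invFun := φ0, left_inv := inv0, right_inv := inv0,
      map_mul' := fun x x' => E.inj (by rw [map_mul, hφ0, hφ0, hφ0, map_mul]; group) }
  have hfix : ∀ p, φ p = p → Commute (E.f p) y := fun p e => by
    have := hφ0 p
    rw [show φ0 p = p from e] at this
    exact mul_inv_eq_iff_eq_mul.mp this.symm |>.symm
  by_cases e1 : φ = 1
  · refine E.near_base hy ?_
    have := hfix a₀ (by rw [e1]; rfl)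
    rwa [E.base] at this
  haveI : Fact (Nat.Prime 2) := ⟨Nat.prime_two⟩
  have ho : orderOf φ = 2 := orderOf_eq_prime (by rw [pow_two]; exact MulEquiv.ext inv0) e1
  obtain ⟨hG, hp⟩ := facts22
  obtain ⟨t, htD, h3, h2, -⟩ := M22.exists_full hG hp CfsgThreeTrans.Exist.type22_pres
  obtain ⟨p, hp', hx⟩ := Cfsg.Agent.S5462.result hG hp t htD h3 h2 CfsgThreeTrans.Exist.type22_pres φ ho
  exact E.near ⟨p, hp', rfl⟩ hy (hfix p hx)

/-- An element carrying a member of the image into the normaliser lies there. -/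
theorem mem_of_conj {g x : G} (hx : x ∈ E.DK) (h : g * x * g⁻¹ ∈ E.N) : g ∈ E.N := by
  have hx' := E.class_inter (E.loc.conj g x (E.DK_sub hx)) h
  obtain ⟨k, hk, he⟩ := E.DK_trans hx hx'
  have : k⁻¹ * g ∈ E.N := E.cent_mem hx (by
    show x * (k⁻¹ * g) = k⁻¹ * g * x
    calc x * (k⁻¹ * g) = k⁻¹ * (k * x * k⁻¹) * g := by group
      _ = k⁻¹ * (g * x * g⁻¹) * g := by rw [he]
      _ = _ := by group)
  have := mul_mem (E.K_le hk) this
  rwa [mul_inv_cancel_left] at this

end Emb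

end CfsgLib.Fi22Loc.Rec
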