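import Cfsg.Agent.Lib.Fi22Loc.Rec.Nine
import Cfsg.Agent.Lib.Fi22Loc.Rec.Switch
import Cfsg.Agent.Lib.Fi22Rec.Cover
import Cfsg.Agent.Lib.ThreeTrans.M22.Unique.Iso

/-!
The presented Fi22 inside a group with a local class.
-/

set_option autoImplicit false
set_option linter.unusedSectionVars false
set_option maxRecDepth 100000

namespace CfsgLib.Fi22Loc.Rec

open Matrix Cfsg CfsgLib CfsgLib.UnitaryTransvection CfsgLib.UnitarySimple CfsgThreeTrans CfsgThreeTrans.M22
open CfsgLib.CosetEnum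
open CfsgThreeTrans.M22.Unique (Nine tau tau7 zE7 joined)

/-- A word fixing every coset lies in any subgroup containing the generators of the enumerated one. -/
theorem word_mem {P : Pres} (C : Cert P) (hlt : ∀ w ∈ P.rels, ∀ x ∈ w, x < P.k)
    (hid : ∀ i < P.k, P.idx (P.gen i) = i) (hhw : ∀ w ∈ C.hw, ∀ x ∈ w, x < P.k) {G : Type*} [Group G]
    (φ : P.Grp →* G) (S : Subgroup G) (hS : ∀ w ∈ C.hw, φ (w.map P.σ).prod ∈ S) (z : List ℕ)
    (hz : ∀ x ∈ z, x < P.k) (hfix : allN C.T.n (fun d => Nat.beq (runT C.T C.D.k z d) d) = true) :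
    φ (z.map P.σ).prod ∈ S := by
  obtain ⟨e, he⟩ := C.exists_equiv hlt hid hhw
  set g := ((z.map P.σ).prod)⁻¹ with hg
  have h1 : C.hom hlt g = 1 := Equiv.ext fun d => Fin.ext <| by
    rw [hg, C.hom_inv_word hlt hid z hz]
    exact Nat.eq_of_beq_eq_true (allN_spec hfix d d.2)
  obtain ⟨d, hd⟩ := e.surjective ((1 : P.Grp) : P.Grp ⧸ C.sub)
  have h2 := he g d
  rw [h1, Equiv.Perm.one_apply, hd, MulAction.Quotient.smul_coe, smul_eq_mul, QuotientGroup.eq] at h2
  have hle : C.sub ≤ S.comap φ := by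
    rw [Cert.sub, Subgroup.closure_le]
    rintro _ ⟨w, hw, rfl⟩
    exact hS w hw
  have h3 : φ (1⁻¹ * (g * 1)) ∈ S := hle h2
  rw [inv_one, one_mul, mul_one, hg, map_inv] at h3
  exact inv_mem_iff.mp h3

/-- Conjugating a word by a braid pair keeps it in a normal set. -/
theorem wrap_mem {G : Type*} [Group G] {D : Set G} (hc : ∀ g : G, ∀ x ∈ D, g * x * g⁻¹ ∈ D) {τ : ℕ → G}
    (hτ : ∀ x, τ x * τ x = 1) {x y : ℕ} {L : List ℕ} (hL : (L.map τ).prod ∈ D) :
    (([y, x] ++ L ++ [x, y]).map τ).prod ∈ D := by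
  have hi : ∀ a, (τ a)⁻¹ = τ a := fun a => inv_eq_of_mul_eq_one_right (hτ a)
  have := hc (τ y * τ x) _ hL
  simpa [_root_.mul_inv_rev, hi, mul_assoc] using this

variable {F : Type} [Field F] [Fintype F] [DecidableEq F] {hF : Fintype.card F = 2 ^ 2}
variable {G : Type*} [Group G] [Finite G] {D : Set G}

/-- The relation of type E7. -/
theorem e7_word (L : Local D hF) {R : Set G} (hR : IsThreeTranspositionSet R) (N : Nine R) (hRD : R ⊆ D)
    (htriv : ∀ z : G, (∀ i : Fin 9, i ≠ 0 → i ≠ 8 → Commute z (N.x i)) → z ∈ LC (N.x 6) → z = 1) :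
    (((List.replicate 9 [1, 2, 3, 4, 5, 6, 7]).flatten).map (tau N)).prod = 1 := by
  have hrel : ∀ w ∈ presE7.rels, (w.map (tau7 N)).prod = 1 := by
    intro w hw
    rcases presE7.mem_rels hw with ⟨i, hi, j, hj, rfl⟩ | hw'
    · have hi7 : i < 7 := hi
      have hj7 : j < 7 := hj
      rw [prod_coxWord, tau7, tau7, if_pos hi7, if_pos hj7]
      refine Unique.tau_cox hR N (by omega) (by omega) ?_
      rcases Unique.label7 i hi7 j hj7 with q | q | q
      · exact Or.inl q
      · exact Or.inr (Or.inl q)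
      · exact Or.inr (Or.inr q)
    · simp at hw'
  obtain ⟨φ, hφ⟩ := presE7.exists_hom (tau7 N) (Unique.tau7_sq hR N) hrel Unique.hid7
  have hσ : ∀ i < 7, φ (presE7.σ i) = tau N (i + 1) := fun i hi => (hφ i hi).trans (if_pos hi)
  have memD : ∀ i : ℕ, i < 9 → (([i] : List ℕ).map (tau N)).prod ∈ D := fun i hi => by
    simpa [Unique.tau_ofNat N hi] using hRD (N.mem (Fin.ofNat 9 i))
  have ht : ∀ w ∈ E7Cen.cert.hw, φ (w.map presE7.σ).prod ∈ D ∧ Commute (φ (w.map presE7.σ).prod) (tau N 6) := by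
    intro w hw
    rw [presE7.hom_prod hφ w (E7Cen.hhw w hw), Unique.tau7_map N w (E7Cen.hhw w hw)]
    change w ∈ E7Cen.hw at hw
    simp only [E7Cen.hw, List.mem_cons, List.not_mem_nil, or_false] at hw
    have one : ∀ i : ℕ, i < 9 → joined (Fin.ofNat 9 i) (Fin.ofNat 9 6) = false →
        (([i] : List ℕ).map (tau N)).prod ∈ D ∧ Commute (([i] : List ℕ).map (tau N)).prod (tau N 6) :=
      fun i hi hij => ⟨memD i hi, by simpa using Unique.tau_comm N i 6 hi (by omega) hij⟩
    rcases hw with rfl | rfl | rfl | rfl | rfl | rfl | rfl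
    exacts [one 1 (by omega) (by decide), one 2 (by omega) (by decide), one 3 (by omega) (by decide),
      one 4 (by omega) (by decide), one 6 (by omega) (by decide), one 7 (by omega) (by decide),
      ⟨wrap_mem L.conj (Unique.tau_sq hR N) (x := 6) (y := 5) (L := [4, 5, 3, 4, 2, 3, 7, 3, 2, 4, 3, 5, 4])
        (wrap_mem L.conj (Unique.tau_sq hR N) (x := 5) (y := 4) (L := [3, 4, 2, 3, 7, 3, 2, 4, 3])
          (wrap_mem L.conj (Unique.tau_sq hR N) (x := 4) (y := 3) (L := [2, 3, 7, 3, 2])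
            (wrap_mem L.conj (Unique.tau_sq hR N) (x := 3) (y := 2) (L := [7]) (memD 7 (by omega))))),
      commute_wrap (Unique.tau_sq hR N) (x := 6) (y := 5) (L := [4, 5, 3, 4, 2, 3, 7, 3, 2, 4, 3, 5, 4])
        (Unique.tau_braid hR N 6 5 (by omega) (by omega) (by decide))
        (commute_wrap (Unique.tau_sq hR N) (x := 5) (y := 4) (L := [3, 4, 2, 3, 7, 3, 2, 4, 3])
          (Unique.tau_braid hR N 5 4 (by omega) (by omega) (by decide))
          (commute_wrap (Unique.tau_sq hR N) (x := 4) (y := 3) (L := [2, 3, 7, 3, 2])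
            (Unique.tau_braid hR N 4 3 (by omega) (by omega) (by decide))
            (commute_wrap (Unique.tau_sq hR N) (x := 3) (y := 2) (L := [7])
              (Unique.tau_braid hR N 3 2 (by omega) (by omega) (by decide))
              (by simpa using Unique.tau_comm N 7 2 (by omega) (by omega) (by decide)))))⟩]
  have x6 : tau N 6 = N.x 6 := Unique.tau_ofNat N (by omega)
  obtain ⟨B⟩ := L.chart (N.x 6) (hRD (N.mem 6))
  have hz7 : ∀ x ∈ zE7, x < 7 := by decide
  have hc := E7Cen.cert.commute_conjugate E7Cen.hlt Unique.hid7 E7Cen.hhw φ (tau N 6) (fun w hw => (ht w hw).2) zE7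
    hz7 Unique.zE7_fix
  have hm := word_mem E7Cen.cert E7Cen.hlt Unique.hid7 E7Cen.hhw φ (LC (N.x 6))
    (fun w hw => B.inC _ (ht w hw).1 (x6 ▸ (ht w hw).2.symm)) zE7 hz7 Unique.zE7_fix
  rw [presE7.hom_prod hφ zE7 hz7, Unique.tau7_map N zE7 hz7] at hc hm
  have r6 : ∃ u, φ u * tau N 6 * (φ u)⁻¹ = tau N 6 := ⟨1, by simp⟩
  have r5 := Unique.reach_step hR N φ (by omega) (by omega) (j := 5) (by decide) _ _ (hσ 5 (by omega))
    (hσ 4 (by omega)) r6
  have r4 := Unique.reach_step hR N φ (by omega) (by omega) (j := 4) (by decide) _ _ (hσ 4 (by omega))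
    (hσ 3 (by omega)) r5
  have r3 := Unique.reach_step hR N φ (by omega) (by omega) (j := 3) (by decide) _ _ (hσ 3 (by omega))
    (hσ 2 (by omega)) r4
  have r2 := Unique.reach_step hR N φ (by omega) (by omega) (j := 2) (by decide) _ _ (hσ 2 (by omega))
    (hσ 1 (by omega)) r3
  have r1 := Unique.reach_step hR N φ (by omega) (by omega) (j := 1) (by decide) _ _ (hσ 1 (by omega))
    (hσ 0 (by omega)) r2
  have r7 := Unique.reach_step hR N φ (by omega) (by omega) (j := 7) (by decide) _ _ (hσ 2 (by omega))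
    (hσ 6 (by omega)) r3
  rw [show (List.replicate 9 [1, 2, 3, 4, 5, 6, 7]).flatten = zE7.map (· + 1) by decide]
  refine htriv _ (fun i h0 h8 => ?_) hm
  have key : ∀ j : ℕ, (∃ u, φ u * tau N 6 * (φ u)⁻¹ = tau N j) →
      Commute ((zE7.map (· + 1)).map (tau N)).prod (tau N j) := fun j ⟨u, hu⟩ => hu ▸ hc u
  fin_cases i
  exacts [absurd rfl h0, key 1 r1, key 2 r2, key 3 r3, key 4 r4, key 5 r5, key 6 r6, key 7 r7, absurd rfl h8]

/-- The spider and arm relators. -/
theorem spider_arm (L : Local D hF) {R : Set G} (hR : IsThreeTranspositionSet R) (N : Nine R) (hRD : R ⊆ D)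
    (htriv : ∀ z : G, (∀ i : Fin 9, i ≠ 0 → i ≠ 8 → Commute z (N.x i)) → z ∈ LC (N.x 6) → z = 1)
    (φ : presY332.Grp →* G) (hφ : ∀ x < presY332.k, φ (presY332.σ x) = tau N x) :
    ∀ k < 2, ((extraWFi22.getD k []).map (tau N)).prod = 1 := by
  intro k hk
  have memD : ∀ i : ℕ, i < 9 → (([i] : List ℕ).map (tau N)).prod ∈ D := fun i hi => by
    simpa [Unique.tau_ofNat N hi] using hRD (N.mem (Fin.ofNat 9 i))
  have ht : ∀ w ∈ Y332.cert.hw, φ (w.map presY332.σ).prod ∈ D ∧ Commute (φ (w.map presY332.σ).prod) (tau N 0) := by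
    intro w hw
    rw [presY332.hom_prod hφ w (Y332.hhw w hw)]
    change w ∈ Y332.hw at hw
    simp only [Y332.hw, List.mem_cons, List.not_mem_nil, or_false] at hw
    have one : ∀ j : ℕ, j < 9 → joined (Fin.ofNat 9 j) (Fin.ofNat 9 0) = false →
        (([j] : List ℕ).map (tau N)).prod ∈ D ∧ Commute (([j] : List ℕ).map (tau N)).prod (tau N 0) :=
      fun j hj hij => ⟨memD j hj, by simpa using Unique.tau_comm N j 0 hj (by omega) hij⟩
    rcases hw with rfl | rfl | rfl | rfl | rfl | rfl | rfl | rfl | rfl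
    exacts [one 0 (by omega) (by decide), one 2 (by omega) (by decide), one 3 (by omega) (by decide),
      one 4 (by omega) (by decide), one 5 (by omega) (by decide), one 6 (by omega) (by decide),
      one 7 (by omega) (by decide), one 8 (by omega) (by decide),
      ⟨wrap_mem L.conj (Unique.tau_sq hR N) (x := 0) (y := 1) (L := [2, 1, 3, 2, 4, 3, 7, 3, 4, 2, 3, 1, 2])
        (wrap_mem L.conj (Unique.tau_sq hR N) (x := 1) (y := 2) (L := [3, 2, 4, 3, 7, 3, 4, 2, 3])
          (wrap_mem L.conj (Unique.tau_sq hR N) (x := 2) (y := 3) (L := [4, 3, 7, 3, 4])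
            (wrap_mem L.conj (Unique.tau_sq hR N) (x := 3) (y := 4) (L := [7]) (memD 7 (by omega))))),
      commute_wrap (Unique.tau_sq hR N) (x := 0) (y := 1) (L := [2, 1, 3, 2, 4, 3, 7, 3, 4, 2, 3, 1, 2])
        (Unique.tau_braid hR N 0 1 (by omega) (by omega) (by decide))
        (commute_wrap (Unique.tau_sq hR N) (x := 1) (y := 2) (L := [3, 2, 4, 3, 7, 3, 4, 2, 3])
          (Unique.tau_braid hR N 1 2 (by omega) (by omega) (by decide))
          (commute_wrap (Unique.tau_sq hR N) (x := 2) (y := 3) (L := [4, 3, 7, 3, 4])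
            (Unique.tau_braid hR N 2 3 (by omega) (by omega) (by decide))
            (commute_wrap (Unique.tau_sq hR N) (x := 3) (y := 4) (L := [7])
              (Unique.tau_braid hR N 3 4 (by omega) (by omega) (by decide))
              (by simpa using Unique.tau_comm N 7 4 (by omega) (by omega) (by decide)))))⟩]
  have x0 : tau N 0 = N.x 0 := Unique.tau_ofNat N (by omega)
  obtain ⟨A⟩ := L.chart (N.x 0) (hRD (N.mem 0))
  have hw9 : ∀ k < 2, ∀ x ∈ extraWFi22.getD k [], x < 9 := by decide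
  have hfix : allN 3510 (fun d => Nat.beq (runT Y332.table 9 (extraWFi22.getD k []) d) d) = true := by
    interval_cases k
    exacts [Unique.spider_fix, Unique.arm_fix]
  have hm := word_mem Y332.cert Y332.hlt Unique.hid332 Y332.hhw φ (LC (N.x 0))
    (fun w hw => A.inC _ (ht w hw).1 (x0 ▸ (ht w hw).2.symm)) _ (hw9 k hk) hfix
  rw [presY332.hom_prod hφ _ (hw9 k hk)] at hm
  have hc : ∀ i : Fin 9, Commute ((extraWFi22.getD k []).map (tau N)).prod (N.x i) := fun i => by
    have := Unique.words_central hR N φ hφ k hk i i.2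
    rwa [tau, dif_pos i.2] at this
  refine htriv _ (fun i _ _ => hc i) ?_
  exact switch L (hRD (N.mem 0)) (hRD (N.mem 6)) (fun e => absurd (N.inj e) (by decide))
    ((N.comm 0 6).mpr (by decide)) hm (hc 6)

/-- The presented group embeds, the base going to a given member and the generators to members. -/
theorem exists_emb (L : Local D hF) {a : G} (ha : a ∈ D) : ∃ f : presFi22.Grp →* G,
    Function.Injective f ∧ f Fi22Class.ta = a ∧ ∀ i < 9, f (presFi22.σ i) ∈ D := by
  classical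
  obtain ⟨N0, h0, hsq, hord, htriv⟩ := exists_nine L ha
  let N : Nine (Set.range N0.x) := ⟨N0.x, fun i => ⟨i, rfl⟩, N0.inj, N0.comm⟩
  have hD : IsThreeTranspositionSet (Set.range N0.x) := by
    refine ⟨?_, ?_⟩
    · rintro _ ⟨i, rfl⟩
      haveI : Fact (Nat.Prime 2) := ⟨Nat.prime_two⟩
      exact orderOf_eq_prime (by rw [pow_two]; exact hsq i) (L.mem_one (N0.mem i)).2
    · rintro _ ⟨i, rfl⟩ _ ⟨j, rfl⟩
      exact hord i j
  have hRD : Set.range N0.x ⊆ D := by rintro _ ⟨i, rfl⟩; exact N0.mem i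
  have hE7 := e7_word L hD N hRD htriv
  have hrel : ∀ w ∈ presY332.rels, (w.map (tau N)).prod = 1 := by
    intro w hw
    rcases presY332.mem_rels hw with ⟨i, hi, j, hj, rfl⟩ | hw'
    · rw [prod_coxWord]
      exact Unique.tau_cox hD N hi hj (Unique.label22 i hi j hj)
    · simp only [List.mem_singleton] at hw'
      rw [hw']
      exact hE7
  obtain ⟨φ, hφ⟩ := presY332.exists_hom (tau N) (Unique.tau_sq hD N) hrel Unique.hid332
  have cen := spider_arm L hD N hRD htriv φ hφ
  have hrel22 : ∀ w ∈ presFi22.rels, (w.map (tau N)).prod = 1 := by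
    intro w hw
    rcases presFi22.mem_rels hw with ⟨i, hi, j, hj, rfl⟩ | hw'
    · rw [prod_coxWord]
      exact Unique.tau_cox hD N hi hj (Unique.label22 i hi j hj)
    · simp only [extraWFi22, List.mem_cons, List.not_mem_nil, or_false] at hw'
      rcases hw' with rfl | rfl | rfl
      exacts [cen 0 (by omega), cen 1 (by omega), hE7]
  obtain ⟨f, hf⟩ := presFi22.exists_hom (tau N) (Unique.tau_sq hD N) hrel22 Fi22Class.hid
  haveI : IsSimpleGroup presFi22.Grp := Cfsg.Agent.S1696.result.1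
  have hb : f Fi22Class.ta = a := by
    rw [U62Mult.ta_eq, hf 0 (by decide), tau, dif_pos (by omega)]
    exact h0
  refine ⟨f, ?_, hb, fun i hi => ?_⟩
  · rw [← MonoidHom.ker_eq_bot_iff]
    refine (f.normal_ker.eq_bot_or_eq_top).resolve_right fun htop => (L.mem_one ha).2 ?_
    rw [← hb]
    exact MonoidHom.mem_ker.mp (htop ▸ Subgroup.mem_top _)
  · rw [hf i hi, Unique.tau_ofNat N hi]
    exact hRD (N.mem _)

end CfsgLib.Fi22Loc.Rec
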