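/-
Nine members on the diagram Y332 with trivial common centraliser of the middle seven.
-/
import Cfsg.Agent.Lib.Fi22Loc.Rec.Base
import Cfsg.Agent.Lib.Fi22Loc.Rec.Switch
import Cfsg.Agent.Lib.ThreeTrans.M22.Unique.Diagram

set_option autoImplicit false
set_option linter.unusedSectionVars false
set_option maxHeartbeats 2000000

namespace CfsgLib.Fi22Loc.Rec

open CfsgFi22Rec

open Matrix Cfsg CfsgLib CfsgLib.UnitaryTransvection CfsgLib.UnitarySimple CfsgThreeTrans.M22
open CfsgThreeTrans.M22.Unique (Nine joined)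

variable {G : Type*} [Group G] {D : Set G}
variable {F : Type} [Field F] [Fintype F] [DecidableEq F] {hF : Fintype.card F = 2 ^ 2} {a : G}

local notation "h" => Cfsg.hermForm 6 F 2
local notation "π" => QuotientGroup.mk' (Subgroup.center (Cfsg.SU 6 F 2))

/-- The vectors perpendicular to `e` and `g` and not to `i`, normalised. -/
def qv (w S T : F) : Fin 6 → F := ![w, S, S, T, T, w * w]

include hF in
theorem good_qv {w : F} (w0 : w ≠ 0) (S T : F) : Good (qv w S T) := by
  refine ⟨fun e => w0 (by simpa [qv] using congrFun e 0), ?_⟩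
  have h2 := two_zero hF
  have := cube hF w0
  rw [herm_six]
  simp [qv]
  linear_combination (S * S * S + T * T * T) * h2 + this + (w ^ 3 + 1) * this + h2

variable (A : Chart D hF a)

include hF in
theorem eigen_scalar (k : Cfsg.SU 6 F 2) {l : F} (hk : ∀ x, mat k *ᵥ x = l • x) : k ∈ Subgroup.center (Cfsg.SU 6 F 2) :=
  Subgroup.mem_center_iff.mpr fun g => su_ext fun x => by
    rw [mat_mul, mat_mul, ← mulVec_mulVec, ← mulVec_mulVec, hk, hk, mulVec_smul]

variable {A}

/-- The ninth vertex. -/
theorem exists_ninth (L : Local D hF) (B : Eight A) : ∃ w T : F, w ≠ 0 ∧ w ≠ 1 ∧ T ≠ w ∧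
    Commute B.b (A.mv (qv w T T)) := by
  classical
  obtain ⟨gC, gD, gE, gF, gG, gI⟩ := goods (F := F) (hF := hF)
  have h2 := two_zero hF
  set c := A.mv vC with hc
  set e := A.mv vE with he
  set g := A.mv vG with hg
  set i := A.mv vI with hi
  set b := B.b
  have ac : Commute a c := A.mv_comm_base gC
  have ae : Commute a e := A.mv_comm_base gE
  have ag : Commute a g := A.mv_comm_base gG
  have ai : Commute a i := A.mv_comm_base gI
  have ci : ∀ {x y : Fin 6 → F}, Good x → Good y → h x y = 0 → Commute (A.mv x) (A.mv y) := fun hx hy k =>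
    (A.mv_comm_iff hx hy).mpr k
  have oce : h (vC : Fin 6 → F) vE = 0 := by simp [herm_six, vC, vE]; linear_combination h2
  have ocg : h (vC : Fin 6 → F) vG = 0 := by simp [herm_six, vC, vG]; linear_combination h2
  have oeg : h (vE : Fin 6 → F) vG = 0 := by simp [herm_six, vE, vG]
  have cce : Commute c e := ci gC gE oce
  have ccg : Commute c g := ci gC gG ocg
  have ceg : Commute e g := ci gE gG oeg
  have cci : Commute c i := ci gC gI (by simp [herm_six, vC, vI]; linear_combination 2 * h2)
  have cei : Commute e i := ci gE gI (by simp [herm_six, vE, vI]; linear_combination h2)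
  have cgi : Commute g i := ci gG gI (by simp [herm_six, vG, vI]; linear_combination h2)
  have ne : ∀ {x y : Fin 6 → F}, Good x → Good y → (∀ t : F, x ≠ t • y) → A.mv x ≠ A.mv y := fun hx hy k e' => by
    obtain ⟨t, ht⟩ := (A.mv_eq_iff hx hy).mp e'
    exact k t ht
  have nec : e ≠ c := ne gE gC fun t k => by
    have k2 := congrFun k 2; have k3 := congrFun k 3
    simp [vE, vC] at k2 k3
    simp [← k2] at k3
  have nge : g ≠ e := ne gG gE fun t k => by simpa [vG, vE] using congrFun k 3
  have ngc : g ≠ c := ne gG gC fun t k => by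
    have k2 := congrFun k 2; have k3 := congrFun k 3
    simp [vG, vC] at k2 k3
    simp [← k2] at k3
  have nie : i ≠ e := ne gI gE fun t k => by simpa [vI, vE] using congrFun k 0
  have nic : i ≠ c := ne gI gC fun t k => by simpa [vI, vC] using congrFun k 0
  -- the chart at `e`
  obtain ⟨E⟩ := L.chart e (A.mv_mem gE)
  have hbe : Commute e b := B.be.symm
  obtain ⟨xA, gxA, eA⟩ := E.mv_surj A.mem (A.mv_ne gE).symm ae.symm
  obtain ⟨xB, gxB, eB⟩ := E.mv_surj B.hb (fun k => B.nab (by rw [show B.b = e from k]; exact ae)) hbe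
  obtain ⟨xC, gxC, eC⟩ := E.mv_surj (A.mv_mem gC) nec.symm cce.symm
  obtain ⟨xG, gxG, eG⟩ := E.mv_surj (A.mv_mem gG) nge ceg
  obtain ⟨xI, gxI, eI⟩ := E.mv_surj (A.mv_mem gI) nie cei
  have o : ∀ {x y : Fin 6 → F}, Good x → Good y → Commute (E.mv x) (E.mv y) → h x y = 0 := fun hx hy k =>
    (E.mv_comm_iff hx hy).mp k
  have hAC := o gxA gxC (by rw [eA, eC]; exact ac)
  have hAG := o gxA gxG (by rw [eA, eG]; exact ag)
  have hAI := o gxA gxI (by rw [eA, eI]; exact ai)
  have hCG := o gxC gxG (by rw [eC, eG]; exact ccg)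
  have hCI := o gxC gxI (by rw [eC, eI]; exact cci)
  have hGI := o gxG gxI (by rw [eG, eI]; exact cgi)
  have hBI := o gxB gxI (by rw [eB, eI]; exact B.bi)
  have hBG := o gxB gxG (by rw [eB, eG]; exact B.bg)
  have hBA : h xB xA ≠ 0 := fun k => B.nab (by
    have := (E.mv_comm_iff gxB gxA).mpr k
    rw [eB, eA] at this
    exact this.symm)
  have nAC : E.mv xA ≠ E.mv xC := by rw [eA, eC]; exact (A.mv_ne gC).symm
  have colG : Col D e a c g := ((A.mv_col gE gC gG nec (swap_zero hF oce) oeg ocg).mpr
    ⟨1, 1, by funext k; fin_cases k <;> simp [vC, vE, vG] <;> linear_combination -h2⟩).swap A.mem nge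
  obtain ⟨al, ga, hG⟩ := (E.mv_col gxA gxC gxG nAC hAC hAG hCG).mp (by rw [eA, eC, eG]; exact colG)
  have hIout : ∀ s t : F, xI ≠ s • xA + t • xC := fun s t k => by
    have := (E.mv_col gxA gxC gxI nAC hAC hAI hCI).mpr ⟨s, t, k⟩
    rw [eA, eC, eI] at this
    have h' := this.swap (A.mv_mem gE) (A.mv_ne gI)
    obtain ⟨p, q, hpq⟩ := (A.mv_col gE gC gI nec (swap_zero hF oce)
      (by simp [herm_six, vE, vI]; linear_combination h2)
      (by simp [herm_six, vC, vI]; linear_combination 2 * h2)).mp h'
    have := congrFun hpq 0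
    simp [vE, vC, vI] at this
  have hli : LinearIndependent F ![xA, xB, xC, xI] := by
    rw [Fintype.linearIndependent_iff]
    intro u hu
    simp only [Fin.sum_univ_four, Matrix.cons_val] at hu
    have k1 := congrArg (fun z => h z xA) hu
    simp only [h_add_left, h_smul_left, h_zero_left hF, gxA.2, swap_zero hF hAC, swap_zero hF hAI, mul_zero, add_zero,
      zero_add] at k1
    have u1 : u 1 = 0 := (mul_eq_zero.mp k1).resolve_right hBA
    rw [u1, zero_smul, add_zero] at hu
    have hind : LinearIndependent F ![xA, xC, xI] := (li_three hF).mpr fun p q r k => by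
      by_cases hr : r = 0
      · rw [hr, zero_smul, add_zero] at k
        exact ⟨(E.mv_li_two gxA gxC nAC p q k).1, (E.mv_li_two gxA gxC nAC p q k).2, hr⟩
      · exfalso
        refine hIout (-(r⁻¹ * p)) (-(r⁻¹ * q)) ?_
        have := congrArg (fun z => r⁻¹ • z) k
        simp only [smul_add, smul_smul, inv_mul_cancel₀ hr, one_smul, smul_zero] at this
        rw [neg_smul, neg_smul, ← neg_add]
        exact eq_neg_of_add_eq_zero_right this
    obtain ⟨u0, u2, u3⟩ := (li_three hF).mp hind _ _ _ hu
    intro k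
    fin_cases k <;> assumption
  obtain ⟨x0, xx, hx0⟩ := exists_iso_vals hF hli ![0, 0, 0, 1] gxI.2 (fun k => by
      fin_cases k
      exacts [swap_zero hF hAI, swap_zero hF hBI, swap_zero hF hCI, gxI.2])
    ![0, 0, 0, 1] (by simp [Fin.sum_univ_four]) (by simp [Fin.sum_univ_four])
  have h0A : h x0 xA = 0 := hx0 0
  have h0B : h x0 xB = 0 := hx0 1
  have h0C : h x0 xC = 0 := hx0 2
  have h0I : h x0 xI = 1 := hx0 3
  have h0G : h x0 xG = 0 := by rw [hG, h_add_right hF, h_smul_right hF, h_smul_right hF, h0A, h0C]; ring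
  let u : F → Fin 6 → F := fun l => x0 + l • xG
  have uI : ∀ l, h (u l) xI = 1 := fun l => by simp only [u, h_add_left, h_smul_left, h0I, hGI]; ring
  have gu : ∀ l, Good (u l) := fun l => ⟨fun k => one_ne_zero (α := F) (by rw [← uI l, k, h_zero_left hF]), by
    simp only [u, h_add_left, h_add_right hF, h_smul_left, h_smul_right hF, xx, h0G, swap_zero hF h0G, gxG.2]; ring⟩
  let M : F → G := fun l => E.mv (u l)
  have Minj : Function.Injective M := fun l m k => by
    obtain ⟨t, ht⟩ := (E.mv_eq_iff (gu l) (gu m)).mp k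
    have := congrArg (fun z => h z xI) ht
    simp only [h_smul_left, uI, mul_one] at this
    rw [← this, one_smul] at ht
    have e' : (l - m) • xG = 0 := by rw [sub_smul]; exact sub_eq_zero.mpr (add_left_cancel ht)
    exact sub_eq_zero.mp ((smul_eq_zero.mp e').resolve_right gxG.1)
  have cm : ∀ {x : Fin 6 → F} {m : G}, Good x → E.mv x = m → (∀ l, h (u l) x = 0) → ∀ l, Commute (M l) m :=
    fun hx em k l => by rw [← em]; exact (E.mv_comm_iff (gu l) hx).mpr (k l)
  have MA := cm gxA eA fun l => by simp only [u, h_add_left, h_smul_left, h0A, swap_zero hF hAG]; ring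
  have MB := cm gxB eB fun l => by simp only [u, h_add_left, h_smul_left, h0B, swap_zero hF hBG]; ring
  have MG := cm gxG eG fun l => by simp only [u, h_add_left, h_smul_left, h0G, gxG.2]; ring
  have ME : ∀ l, Commute (M l) e := fun l => (E.mv_comm_base (gu l)).symm
  have MI : ∀ l, ¬ Commute (M l) i := fun l k => by
    rw [show i = E.mv xI from eI.symm] at k
    exact one_ne_zero (α := F) ((uI l).symm.trans ((E.mv_comm_iff (gu l) gxI).mp k))
  have MM : ∀ l m, Commute (M l) (M m) := fun l m => (E.mv_comm_iff (gu l) (gu m)).mpr (by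
    simp only [u, h_add_left, h_add_right hF, h_smul_left, h_smul_right hF, xx, h0G, swap_zero hF h0G, gxG.2]; ring)
  -- their shape in the chart at `a`
  have shape : ∀ l, ∃ r S T : F, r ≠ 0 ∧ r ≠ 1 ∧ M l = A.mv (qv r S T) := by
    intro l
    obtain ⟨q, gq, eq'⟩ := A.mv_surj (E.mv_mem (gu l)) (fun k => MI l ((show M l = a from k).symm ▸ ai))
      (MA l).symm
    have q12 : q 1 + q 2 = 0 := by
      have := (A.mv_comm_iff gq gE).mp (by rw [eq']; exact ME l)
      simpa [herm_six, vE] using this
    have q34 : q 3 + q 4 = 0 := by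
      have := (A.mv_comm_iff gq gG).mp (by rw [eq']; exact MG l)
      simpa [herm_six, vG] using this
    have e12 : q 2 = q 1 := by linear_combination q12 - q 1 * h2
    have e34 : q 4 = q 3 := by linear_combination q34 - q 3 * h2
    have hn : q 0 + q 5 ≠ 0 := fun k => MI l (by
      show Commute (M l) (A.mv vI)
      rw [show M l = A.mv q from eq'.symm]
      refine (A.mv_comm_iff gq gI).mpr ?_
      simp [herm_six, vI]
      linear_combination k + (q 1 + q 3) * h2 + e12 + e34)
    have hiso : q 0 ^ 3 + q 5 ^ 3 = 0 := by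
      have := gq.2
      rw [herm_six, e12, e34] at this
      linear_combination this - (q 1 ^ 3 + q 3 ^ 3) * h2
    have n0 : q 0 ≠ 0 := fun k => by
      rw [k] at hiso hn
      exact hn (by simpa using hiso)
    have n5 : q 5 ≠ 0 := fun k => by
      rw [k] at hiso
      exact n0 (by simpa using hiso)
    set r := q 5 / q 0 with hr
    have hr5 : r * q 0 = q 5 := div_mul_cancel₀ _ n0
    have r0 : r ≠ 0 := div_ne_zero n5 n0
    have r1 : r ≠ 1 := fun k => hn (by rw [← hr5, k]; linear_combination q 0 * h2)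
    refine ⟨r, r / q 0 * q 1, r / q 0 * q 3, r0, r1, ?_⟩
    rw [show qv r (r / q 0 * q 1) (r / q 0 * q 3) = (r / q 0) • q by
      funext k
      fin_cases k <;> simp [qv, e12, e34, hr] <;> field_simp]
    rw [A.mv_smul gq (div_ne_zero r0 n0)]
    exact eq'.symm
  choose r S T r0 r1 hM using shape
  set w := r 0 with hw
  obtain ⟨hq, -, z0, z1, zw, w3, hall⟩ := omega_facts (hF := hF) (r0 0) (r1 0)
  rw [← hw] at hq z0 z1 zw w3 hall
  have w0 : w ≠ 0 := r0 0
  have hr : ∀ l, r l = w := fun l => by
    have := (A.mv_comm_iff (good_qv (hF := hF) (r0 l) (S l) (T l)) (good_qv (hF := hF) w0 (S 0) (T 0))).mp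
      (by rw [← hM, hw, ← hM]; exact MM l 0)
    simp [herm_six, qv] at this
    have k : r l * (w * w) + r l * r l * w = 0 := by
      linear_combination this - (S l * (S 0 * S 0) + T l * (T 0 * T 0)) * h2 - (r l * r l * w) * w3
    have k' : r l * w * (w + r l) = 0 := by linear_combination k
    have := (mul_eq_zero.mp k').resolve_left (mul_ne_zero (r0 l) w0)
    linear_combination this - w * h2
  let Q : F → F → Prop := fun s t => Commute b (A.mv (qv w s t))
  have inQ : ∀ l, Q (S l) (T l) := fun l => by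
    show Commute b _
    rw [← hr l, ← hM]
    exact (MB l).symm
  have nab : ¬ Commute a b := B.nab
  have qq : ∀ s t s' t', h (qv w s t) (qv w s' t') = 0 := fun s t s' t' => by
    simp [herm_six, qv]
    linear_combination (s * (s' * s') + t * (t' * t')) * h2 + (w ^ 3 + 2) * w3 + h2
  have qne : ∀ s t s' t', (s, t) ≠ (s', t') → A.mv (qv w s t) ≠ A.mv (qv w s' t') := fun s t s' t' k =>
    ne (good_qv (hF := hF) w0 s t) (good_qv (hF := hF) w0 s' t') fun x k' => by
      have k0 := congrFun k' 0
      have k1 := congrFun k' 1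
      have k3 := congrFun k' 3
      simp [qv] at k0 k1 k3
      have x1 : x = 1 := mul_right_cancel₀ w0 (by rw [one_mul]; exact k0.symm)
      exact k (by rw [k1, k3, x1, one_mul, one_mul])
  have nocol : ∀ {x y z : Fin 6 → F}, Good x → Good y → Good z → A.mv x ≠ A.mv y → A.mv z ≠ A.mv x →
      A.mv z ≠ A.mv y → h x y = 0 → h x z = 0 → h y z = 0 → Commute b (A.mv x) → Commute b (A.mv y) →
      Commute b (A.mv z) → ∀ s t : F, z ≠ s • x + t • y := fun hx hy hz n1 n2 n3 o1 o2 o3 b1 b2 b3 s t k =>
    nab (no_col L A.mem B.hb ((A.mv_col hx hy hz n1 o1 o2 o3).mpr ⟨s, t, k⟩) n2 n3 b1 b2 b3)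
  have oqe : ∀ s t, h (qv w s t) vE = 0 := fun s t => by simp [herm_six, qv, vE]; linear_combination s * h2
  have oqg : ∀ s t, h (qv w s t) vG = 0 := fun s t => by simp [herm_six, qv, vG]; linear_combination t * h2
  have gne : ∀ s t, A.mv vG ≠ A.mv (qv w s t) := fun s t => ne gG (good_qv (hF := hF) w0 s t) fun x k => by
    have k0 := congrFun k 0; have k3 := congrFun k 3
    simp [qv, vG, w0] at k0 k3
    simp [k0] at k3
  have ene : ∀ s t, A.mv vE ≠ A.mv (qv w s t) := fun s t => ne gE (good_qv (hF := hF) w0 s t) fun x k => by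
    have k0 := congrFun k 0; have k1 := congrFun k 1
    simp [qv, vE, w0] at k0 k1
    simp [k0] at k1
  have Sinj : ∀ s t t', Q s t → Q s t' → t = t' := fun s t t' h1 h1' => by
    by_contra k
    refine nocol (good_qv (hF := hF) w0 s t) (good_qv (hF := hF) w0 s t') gG (qne _ _ _ _ (by simpa using k)) (gne _ _) (gne _ _)
      (qq _ _ _ _) (oqg _ _) (oqg _ _) h1 h1' B.bg (t + t')⁻¹ (t + t')⁻¹ ?_
    have n : t + t' ≠ 0 := fun k' => k (by linear_combination k' - t' * h2)
    funext j
    fin_cases j <;> simp [qv, vG] <;> field_simp <;> grind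
  have Tinj : ∀ s s' t, Q s t → Q s' t → s = s' := fun s s' t h1 h1' => by
    by_contra k
    refine nocol (good_qv (hF := hF) w0 s t) (good_qv (hF := hF) w0 s' t) gE (qne _ _ _ _ (by simpa using k)) (ene _ _) (ene _ _)
      (qq _ _ _ _) (oqe _ _) (oqe _ _) h1 h1' B.be (s + s')⁻¹ (s + s')⁻¹ ?_
    have n : s + s' ≠ 0 := fun k' => k (by linear_combination k' - s' * h2)
    funext j
    fin_cases j <;> simp [qv, vE] <;> field_simp <;> grind
  have Sbij : Function.Bijective S := Finite.injective_iff_bijective.mp fun l m k => Minj (by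
    rw [hM, hM, hr, hr, k, Sinj (S m) (T l) (T m) (k ▸ inQ l) (inQ m)])
  have Tbij : Function.Bijective T := Finite.injective_iff_bijective.mp fun l m k => Minj (by
    rw [hM, hM, hr, hr, k, Tinj (S l) (S m) (T m) (k ▸ inQ l) (inQ m)])
  -- no member extends the eight on the wrong side
  have notww : ¬ Q w w := fun k => by
    have gq := good_qv (hF := hF) w0 w w
    have := B.nov (A.mv (qv w w w)) (A.mv_mem gq) (A.mv_comm_base gq).symm k.symm
      (ci gq gC (by simp [herm_six, qv, vC]; linear_combination (2 * w) * h2))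
      (ci gq gD (by simp [herm_six, qv, vD]; linear_combination w * h2))
      (ci gq gE (oqe _ _))
      (ci gq gF (by simp [herm_six, qv, vF]; linear_combination w * h2))
      (ci gq gG (oqg _ _))
    have := (A.mv_comm_iff gI gq).mp this
    simp [herm_six, qv, vI] at this
    exact one_ne_zero (α := F) (by linear_combination this - (2 * (w * w)) * h2 - hq + (1 : F) * h2 + (-w) * w3)
  obtain ⟨l0, hl0⟩ := Tbij.2 w
  set S0 := S l0
  have Q0 : Q S0 w := hl0 ▸ inQ l0
  have S0w : S0 ≠ w := fun k => notww (k ▸ Q0)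
  have swapQ : ∀ s t, Q s t → Q t s := fun s t k => by
    have g1 := good_qv (hF := hF) w0 s t
    have conj : ∀ {x y z : Fin 6 → F}, Good x → Good y → Commute b (A.mv x) → Commute b (A.mv y) →
        z = x + h x y • y → Good z ∧ Commute b (A.mv z) := fun hx hy k1 k2 e' => by
      rw [e']
      refine ⟨refl_good hF hx hy, ?_⟩
      rw [← A.mv_refl L hx hy]
      exact (k2.mul_right k1).mul_right k2
    obtain ⟨g2, k2⟩ := conj (z := ![w, s, t, s, t, w * w]) g1 gF k B.bf (by
      funext j; fin_cases j <;> simp [herm_six, qv, vF] <;> grind)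
    obtain ⟨g3, k3⟩ := conj (z := ![w, t, s, s, t, w * w]) g2 gE k2 B.be (by
      funext j; fin_cases j <;> simp [herm_six, vE] <;> grind)
    obtain ⟨g4, k4⟩ := conj (z := ![w, t, s, t, s, w * w]) g3 gG k3 B.bg (by
      funext j; fin_cases j <;> simp [herm_six, vG] <;> grind)
    exact (conj (z := qv w t s) g4 gF k4 B.bf (by
      funext j; fin_cases j <;> simp [herm_six, qv, vF] <;> grind)).2
  have Qw : Q w S0 := swapQ _ _ Q0
  obtain ⟨A', nA0, nAw⟩ : ∃ x : F, x ≠ S0 ∧ x ≠ w := by
    by_contra k
    push Not at k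
    have := Finset.card_le_card (s := (Finset.univ : Finset F)) (t := {S0, w}) fun x _ => by
      simp only [Finset.mem_insert, Finset.mem_singleton]
      exact or_iff_not_imp_left.mpr (k x)
    rw [Finset.card_univ, hF] at this
    exact absurd (this.trans Finset.card_le_two) (by norm_num)
  obtain ⟨lA, hlA⟩ := Sbij.2 A'
  set B' := T lA with hB'
  have QA : Q A' B' := hlA ▸ inQ lA
  refine ⟨w, A', w0, r1 0, nAw, ?_⟩
  suffices k : B' = A' by rw [k] at QA; exact QA
  by_contra kAB
  have nB0 : B' ≠ S0 := fun k => nAw (Tinj A' w S0 (k ▸ QA) Qw)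
  have nBw : B' ≠ w := fun k => nA0 (Tinj A' S0 w (k ▸ QA) Q0)
  have four : ∀ z : F, z = S0 ∨ z = w ∨ z = A' ∨ z = B' := by
    intro z
    have : ({S0, w, A', B'} : Finset F) = Finset.univ := Finset.eq_univ_of_card _ (by
      rw [hF, Finset.card_insert_of_notMem (by simp [S0w, nA0.symm, nB0.symm]),
        Finset.card_insert_of_notMem (by simp [nAw.symm, nBw.symm]),
        Finset.card_insert_of_notMem (by simp [Ne.symm kAB]), Finset.card_singleton]; norm_num)
    have := Finset.mem_univ z
    rw [← ‹_ = Finset.univ›] at this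
    simpa using this
  have hsum : A' + B' = S0 + w := by
    rcases four (S0 + w + A') with k | k | k | k
    · exact absurd (by linear_combination k - w * h2) nAw
    · exact absurd (by linear_combination k - S0 * h2) nA0
    · exact absurd (by linear_combination k - w * h2) S0w
    · linear_combination A' * h2 - k
  have n : S0 + w ≠ 0 := fun k => S0w (by linear_combination k - w * h2)
  refine nocol (good_qv (hF := hF) w0 S0 w) (good_qv (hF := hF) w0 w S0) (good_qv (hF := hF) w0 A' B')
    (qne _ _ _ _ (by simpa using fun k _ => S0w k)) (qne _ _ _ _ (by simpa using fun k _ => nA0 k))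
    (qne _ _ _ _ (by simpa using fun k _ => nAw k)) (qq _ _ _ _) (qq _ _ _ _) (qq _ _ _ _) Q0 Qw QA
    ((A' + w) / (S0 + w)) (1 + (A' + w) / (S0 + w)) ?_
  funext j
  fin_cases j <;> simp [qv] <;> field_simp <;> grind

/-- Nine members on the diagram with the relations needed. -/
theorem exists_nine (L : Local D hF) (ha : a ∈ D) : ∃ N : Nine D, N.x 0 = a ∧
    (∀ i, N.x i * N.x i = 1) ∧ (∀ i j, (N.x i * N.x j) ^ 2 = 1 ∨ (N.x i * N.x j) ^ 3 = 1) ∧
    ∀ z : G, (∀ i : Fin 9, i ≠ 0 → i ≠ 8 → Commute z (N.x i)) → z ∈ LC (N.x 6) → z = 1 := by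
  classical
  obtain ⟨A⟩ := L.chart a ha
  obtain ⟨B⟩ := exists_eight L A
  obtain ⟨w, T, w0, w1, Tw, bh⟩ := exists_ninth L B
  obtain ⟨gC, gD, gE, gF, gG, gI⟩ := goods (F := F) (hF := hF)
  obtain ⟨hq, -, z0, z1, zw, w3, hall⟩ := omega_facts (hF := hF) w0 w1
  have gH := good_qv (hF := hF) w0 T T
  have h2 := two_zero hF
  have hwT : w + T ≠ 0 := fun k => Tw (by linear_combination k - w * h2)
  let v : Fin 9 → (Fin 6 → F) := ![0, 0, vC, vD, vE, vF, vG, qv w T T, vI]
  let x : Fin 9 → G := ![a, B.b, A.mv vC, A.mv vD, A.mv vE, A.mv vF, A.mv vG, A.mv (qv w T T), A.mv vI]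
  have gv : ∀ i : Fin 9, 2 ≤ i.val → Good (v i) := by
    intro i hi
    fin_cases i
    all_goals first | exact absurd hi (by decide) | assumption
  have xv : ∀ i : Fin 9, 2 ≤ i.val → x i = A.mv (v i) := by
    intro i hi
    fin_cases i
    all_goals first | exact absurd hi (by decide) | rfl
  have hx : ∀ i, x i ∈ D := by
    intro i
    by_cases hi : 2 ≤ i.val
    · rw [xv i hi]; exact A.mv_mem (gv i hi)
    · fin_cases i <;> first | exact ha | exact B.hb | exact absurd (by decide) hi
  have table : ∀ i j : Fin 9, 2 ≤ i.val → 2 ≤ j.val → (h (v i) (v j) = 0 ↔ joined i j = false) := by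
    intro i j hi hj
    fin_cases i <;> fin_cases j <;> simp [v, joined, herm_six, vC, vD, vE, vF, vG, vI, qv] at hi hj ⊢ <;> grind
  have comm : ∀ i j, Commute (x i) (x j) ↔ joined i j = false := by
    have jsymm : ∀ i j, joined i j = joined j i := by decide
    have key : ∀ i j : Fin 9, i ≤ j → (Commute (x i) (x j) ↔ joined i j = false) := by
      intro i j hij
      by_cases hi : 2 ≤ i.val
      · have hj : 2 ≤ j.val := le_trans hi hij
        rw [xv i hi, xv j hj, A.mv_comm_iff (gv i hi) (gv j hj)]
        exact table i j hi hj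
      · have j0 : ∀ k : Fin 9, 2 ≤ k.val → joined 0 k = false := by decide
        have ja : ∀ k : Fin 9, 2 ≤ k.val → Commute a (x k) := fun k hk => by
          rw [xv k hk]; exact A.mv_comm_base (gv k hk)
        fin_cases i
        · fin_cases j
          · simp [joined]
          · simpa [joined, x] using B.nab
          all_goals exact iff_of_true (ja _ (by decide)) (j0 _ (by decide))
        · fin_cases j
          · exact absurd hij (by decide)
          · simp [joined]
          · simpa [joined, x] using B.nbc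
          · exact iff_of_true B.bd rfl
          · exact iff_of_true B.be rfl
          · exact iff_of_true B.bf rfl
          · exact iff_of_true B.bg rfl
          · exact iff_of_true bh rfl
          · exact iff_of_true B.bi rfl
        all_goals exact absurd (by decide) hi
    intro i j
    rcases le_total i j with k | k
    · exact key i j k
    · rw [jsymm i j, ← key j i k]
      exact ⟨fun e => e.symm, fun e => e.symm⟩
  have inj : Function.Injective x := by
    intro i j e
    have : ∀ i j : Fin 9, (∀ k, joined i k = joined j k) → i = j := by decide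
    refine this i j fun k => ?_
    have := comm i k
    rw [e, comm j k] at this
    cases hik : joined i k <;> cases hjk : joined j k <;> simp_all
  have three : ∀ i j, (x i * x j) ^ 2 = 1 ∨ (x i * x j) ^ 3 = 1 := by
    intro i j
    by_cases hc : Commute (x i) (x j)
    · left
      rw [hc.mul_pow, pow_two, pow_two, (L.mem_one (hx i)).1, (L.mem_one (hx j)).1, one_mul]
    · right
      have pick : ∀ i j : Fin 9, joined i j = true → ∃ k, joined i k = false ∧ joined j k = false := by decide
      obtain ⟨k, k1, k2⟩ := pick i j (by rw [comm i j] at hc; simpa using hc)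
      obtain ⟨K⟩ := L.chart (x k) (hx k)
      exact K.order_three L (hx i) (hx j) ((comm i k).mpr k1).symm ((comm j k).mpr k2).symm hc
  refine ⟨⟨x, hx, inj, comm⟩, rfl, fun i => (L.mem_one (hx i)).1, three, fun z hz hzL => ?_⟩
  have zb : Commute z B.b := hz 1 (by decide) (by decide)
  have zc : Commute z (A.mv vC) := hz 2 (by decide) (by decide)
  have zd : Commute z (A.mv vD) := hz 3 (by decide) (by decide)
  have ze : Commute z (A.mv vE) := hz 4 (by decide) (by decide)
  have zf : Commute z (A.mv vF) := hz 5 (by decide) (by decide)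
  have zg : Commute z (A.mv vG) := hz 6 (by decide) (by decide)
  have zh : Commute z (A.mv (qv w T T)) := hz 7 (by decide) (by decide)
  -- the chart at `g`
  have cmx : ∀ i j, joined i j = false → Commute (x i) (x j) := fun i j => (comm i j).mpr
  obtain ⟨K⟩ := L.chart (A.mv vG) (A.mv_mem gG)
  have pick6 : ∀ i : Fin 9, i ≠ 6 → joined 6 i = false → ∃ y, Good y ∧ K.mv y = x i := fun i hi hj =>
    K.mv_surj (hx i) (fun k => hi (inj k)) (cmx 6 i hj)
  obtain ⟨ya, gya, eya⟩ := pick6 0 (by decide) (by decide)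
  obtain ⟨yb, gyb, eyb⟩ := pick6 1 (by decide) (by decide)
  obtain ⟨yc, gyc, eyc⟩ := pick6 2 (by decide) (by decide)
  obtain ⟨yd, gyd, eyd⟩ := pick6 3 (by decide) (by decide)
  obtain ⟨ye, gye, eye⟩ := pick6 4 (by decide) (by decide)
  have ko : ∀ {p q : Fin 6 → F} {m n : Fin 9}, Good p → Good q → K.mv p = x m → K.mv q = x n →
      (h p q = 0 ↔ joined m n = false) := fun hp hq ep eq' => by
    rw [← comm, ← ep, ← eq', K.mv_comm_iff hp hq]
  have zK : z ∈ LC (A.mv vG) := hzL
  obtain ⟨k, hk⟩ := QuotientGroup.mk'_surjective _ (K.ψ ⟨z, zK⟩)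
  have eig : ∀ {y : Fin 6 → F}, Good y → Commute z (K.mv y) → ∃ l, mat k *ᵥ y = l • y := fun hy hc =>
    K.eigen_mv L ⟨z, zK⟩ hk.symm hy hc
  obtain ⟨lb, eb⟩ := eig gyb (by rw [eyb]; exact zb)
  obtain ⟨lc, ec⟩ := eig gyc (by rw [eyc]; exact zc)
  obtain ⟨ld, ed⟩ := eig gyd (by rw [eyd]; exact zd)
  obtain ⟨le, ee⟩ := eig gye (by rw [eye]; exact ze)
  have jn : ∀ {m n : Fin 9}, joined m n = true → ¬ joined m n = false := fun h' => by simp [h']
  have l1 := eig_eq (hF := hF) k ec ed fun e' => jn (by decide) ((ko gyc gyd eyc eyd).mp e')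
  have l2 := eig_eq (hF := hF) k ed ee fun e' => jn (by decide) ((ko gyd gye eyd eye).mp e')
  have colA : Col D (A.mv vG) a (A.mv vC) (A.mv vE) :=
    ((A.mv_col gG gC gE (fun e' => (by decide : (6 : Fin 9) ≠ 2) (inj e'))
      (by simp [herm_six, vC, vG]; linear_combination h2) (by simp [herm_six, vE, vG])
      (by simp [herm_six, vC, vE]; linear_combination h2)).mpr
      ⟨1, 1, by funext j; fin_cases j <;> simp [vC, vE, vG] <;> linear_combination -h2⟩).swap A.mem
      fun e' => (by decide : (4 : Fin 9) ≠ 6) (@inj 4 6 e')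
  have nac : K.mv ya ≠ K.mv yc := by rw [eya, eyc]; exact fun e' => (by decide : (0 : Fin 9) ≠ 2) (inj e')
  obtain ⟨p, q, hye⟩ := (K.mv_col gya gyc gye nac ((ko gya gyc eya eyc).mpr (by decide))
    ((ko gya gye eya eye).mpr (by decide)) ((ko gyc gye eyc eye).mpr (by decide))).mp
    (by rw [eya, eyc, eye]; exact colA)
  have p0 : p ≠ 0 := fun e' => by
    rw [e', zero_smul, zero_add] at hye
    have q0 : q ≠ 0 := fun e'' => gye.1 (by rw [hye, e'', zero_smul])
    exact (by decide : (4 : Fin 9) ≠ 2) (inj (eye.symm.trans (by rw [hye, K.mv_smul gyc q0, eyc])))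
  have za : Commute z a := by
    show Commute z (x 0)
    rw [← eya]
    refine K.comm_of_eigen L ⟨z, zK⟩ hk.symm gya (l := le) ?_
    have : ya = p⁻¹ • ye + (-(p⁻¹ * q)) • yc := by
      rw [hye, smul_add, smul_smul, smul_smul, inv_mul_cancel₀ p0, one_smul]
      module
    rw [this, mulVec_add, mulVec_smul, mulVec_smul, ee, ec, l1, l2, smul_add, smul_comm le, smul_comm le (-(p⁻¹ * q))]
  -- the chart at `a`
  have zA : z ∈ LC a := switch L (A.mv_mem gG) A.mem (A.mv_ne gG).symm (A.mv_comm_base gG).symm zK za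
  obtain ⟨k', hk'⟩ := QuotientGroup.mk'_surjective _ (A.ψ ⟨z, zA⟩)
  have eig' : ∀ {y : Fin 6 → F}, Good y → Commute z (A.mv y) → ∃ l, mat k' *ᵥ y = l • y := fun hy hc =>
    A.eigen_mv L ⟨z, zA⟩ hk'.symm hy hc
  obtain ⟨l, eD⟩ := eig' gD zd
  obtain ⟨le', eE⟩ := eig' gE ze
  obtain ⟨lf, eF⟩ := eig' gF zf
  obtain ⟨lg, eG⟩ := eig' gG zg
  obtain ⟨lh, eH⟩ := eig' gH zh
  have tb : ∀ {m n : Fin 9}, 2 ≤ m.val → 2 ≤ n.val → joined m n = true → h (v m) (v n) ≠ 0 :=
    fun hm hn hj e' => jn hj ((table _ _ hm hn).mp e')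
  have s1 : l = le' := eig_eq (hF := hF) k' eD eE (tb (m := 3) (n := 4) (by decide) (by decide) (by decide))
  have s2 : le' = lf := eig_eq (hF := hF) k' eE eF (tb (m := 4) (n := 5) (by decide) (by decide) (by decide))
  have s3 : lf = lg := eig_eq (hF := hF) k' eF eG (tb (m := 5) (n := 6) (by decide) (by decide) (by decide))
  have s4 : l = lh := eig_eq (hF := hF) k' eD eH (tb (m := 3) (n := 7) (by decide) (by decide) (by decide))
  rw [← s1] at eE
  rw [← s2, ← s1] at eF
  rw [← s3, ← s2, ← s1] at eG
  rw [← s4] at eH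
  set u : Fin 6 → F := vS w + vE + vG with hu
  have uval : u = ![1, 1, 1, 1, 1, w] := by funext j; fin_cases j <;> simp [hu, vS, vE, vG]
  have gu : Good u := by
    refine ⟨fun e' => by simpa [uval] using congrFun e' 0, ?_⟩
    rw [uval, herm_six]
    simp
    linear_combination w3 + 3 * h2
  have hu' : u = w⁻¹ • qv w T T + (w⁻¹ * (w + T)) • (vE + vG) := by
    funext j
    fin_cases j <;> simp [uval, qv, vE, vG] <;> field_simp <;> grind
  have eU : mat k' *ᵥ u = l • u := by
    rw [hu', mulVec_add, mulVec_smul, mulVec_smul, mulVec_add, eH, eE, eG]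
    module
  have hl : l ≠ 0 := fun e' => mat_ne_zero k' gD.1 (by rw [eD, e', zero_smul])
  set e1 : Fin 6 → F := ![1, 0, 0, 0, 0, 0]
  set y := mat k' *ᵥ e1 - l • e1 with hy
  have yperp : ∀ {x : Fin 6 → F}, mat k' *ᵥ x = l • x → h x y = 0 := fun {x} ex => by
    have e' := su_h k' x e1
    rw [ex, h_smul_left] at e'
    have h3 := cube hF hl
    rw [hy, h_sub_right hF, h_smul_right hF, frob_eq hF]
    linear_combination (l * l) * e' - h x (mat k' *ᵥ e1) * h3
  have y01 := yperp eD
  have y12 := yperp eE
  have y23 := yperp eF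
  have y34 := yperp eG
  have yu := yperp eU
  have sqeq : ∀ {p q : F}, p * p + q * q = 0 → p = q := fun {p q} e' => by
    have : (p + q) * (p + q) = 0 := by linear_combination e' + (p * q) * h2
    linear_combination (mul_self_eq_zero.mp this) - q * h2
  have t1 : y 0 = y 1 := sqeq (by simpa [herm_six, vD] using y01)
  have t2 : y 1 = y 2 := sqeq (by simpa [herm_six, vE] using y12)
  have t3 : y 2 = y 3 := sqeq (by simpa [herm_six, vF] using y23)
  have t4 : y 3 = y 4 := sqeq (by simpa [herm_six, vG] using y34)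
  have t5 : y 5 = y 0 * w := by
    rw [uval] at yu
    simp [herm_six, ← t4, ← t3, ← t2, ← t1] at yu
    refine sqeq ?_
    linear_combination (w * w) * yu - (y 5 * y 5) * w3 + (-2 * (w * w) * (y 0 * y 0)) * h2
  set t := y 0
  have hye1 : mat k' *ᵥ e1 = l • e1 + t • u := by
    have : y = t • u := by
      funext j
      fin_cases j <;> simp [uval, ← t4, ← t3, ← t2, ← t1, t5, t]
    rw [← this, hy]; abel
  have decomp : ∀ p : Fin 6 → F, h p u = 0 →
      mat k' *ᵥ p = l • p := fun p hp => by
    rw [uval] at hp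
    simp [herm_six] at hp
    set m := p 5 * (w * w)
    have e : p = m • u + ((p 0 + m) • vD + ((p 0 + p 1) • vE + ((p 0 + p 1 + p 2 + m) • vF + (p 4 + m) • vG))) := by
      funext j
      fin_cases j <;> simp [uval, vD, vE, vF, vG, m] <;> grind
    rw [e]
    simp only [mulVec_add, mulVec_smul, eU, eD, eE, eF, eG]
    module
  have eval : ∀ p : Fin 6 → F, mat k' *ᵥ p = l • p + (h p u * t) • u := fun p => by
    have he1 : h e1 u = 1 := by simp [e1, uval, herm_six]
    have := decomp (p - h p u • e1) (by rw [h_sub_left, h_smul_left, he1, mul_one, sub_self])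
    rw [mulVec_sub, mulVec_smul, hye1, smul_sub, smul_add, smul_smul, sub_eq_iff_eq_add] at this
    rw [this]
    module
  have tl : t * (l * l) = 0 ∨ t * (l * l) = 1 := by
    have e' := su_h k' e1 e1
    have he1 : h e1 u = 1 := by simp [e1, uval, herm_six]
    have he1' : h u e1 = 1 := by rw [← h_swap hF e1 u, he1, map_one]
    have he2 : h e1 e1 = 1 := by simp [e1, herm_six]
    simp only [hye1, h_add_left, h_add_right hF, h_smul_left, h_smul_right hF, he1, he1', he2, gu.2,
      frob_eq hF] at e'
    have h3 := cube hF hl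
    have q0 : t * (l * l) * (t * (l * l) + 1) = 0 := by
      linear_combination e' + (t * t * l - 1) * h3 
    rcases mul_eq_zero.mp q0 with q | q
    exacts [Or.inl q, Or.inr (by linear_combination q - h2)]
  rcases tl with tl | tl
  · have t0 : t = 0 := (mul_eq_zero.mp tl).resolve_right (mul_ne_zero hl hl)
    have hs : k' ∈ Subgroup.center (Cfsg.SU 6 F 2) := eigen_scalar (hF := hF) k' fun p => by
      rw [eval, t0, mul_zero, zero_smul, add_zero]
    have : A.ψ ⟨z, zA⟩ = 1 := by
      rw [← hk', QuotientGroup.mk'_apply, QuotientGroup.eq_one_iff]; exact hs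
    rcases A.ker' this with e' | e'
    · exact e'
    · exact absurd ((show Commute z B.b from zb)) (by
        rw [show z = a from e']; exact B.nab)
  · exfalso
    set tV := tu hF u
    have hs : k' * tV⁻¹ ∈ Subgroup.center (Cfsg.SU 6 F 2) := eigen_scalar (hF := hF) _ (l := l) fun p => by
      rw [mat_mul, ← mulVec_mulVec]
      set p' := mat tV⁻¹ *ᵥ p with hp'
      have : p = p' + h p' u • u := by rw [← tu_mulVec hF gu.2, hp', mat_inv_mulVec]
      rw [eval, show h p' u * t = l * h p' u by
        have h3 := cube hF hl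
        linear_combination (h p' u * l) * tl - (h p' u * t) * h3, this]
      module
    set V := A.mv u with hV
    have hψ : A.ψ (⟨z, zA⟩ * (A.pnt' ⟨u, gu⟩)⁻¹) = 1 := by
      rw [map_mul, map_inv, A.ψ_pnt, ← hk', ← map_inv, ← map_mul, QuotientGroup.mk'_apply,
        QuotientGroup.eq_one_iff]
      exact hs
    have Vmem := A.mv_mem gu
    have ciu : ∀ {p : Fin 6 → F}, Good p → h u p = 0 → Commute V (A.mv p) := fun hp e' =>
      (A.mv_comm_iff gu hp).mpr e'
    have Va : Commute V a := (A.mv_comm_base gu).symm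
    have VD : Commute V (A.mv vD) := ciu gD (by simp [uval, herm_six, vD]; linear_combination h2)
    have VE : Commute V (A.mv vE) := ciu gE (by simp [uval, herm_six, vE]; linear_combination h2)
    have VF : Commute V (A.mv vF) := ciu gF (by simp [uval, herm_six, vF]; linear_combination h2)
    have VG : Commute V (A.mv vG) := ciu gG (by simp [uval, herm_six, vG]; linear_combination h2)
    have VC : Commute V (A.mv vC) := ciu gC (by simp [uval, herm_six, vC]; linear_combination 2 * h2)
    have nVI : ¬ Commute (A.mv vI) V := fun e' => by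
      have := (A.mv_comm_iff gI gu).mp e'
      simp [uval, herm_six, vI] at this
      exact z1 (by linear_combination this - 3 * h2)
    rcases A.ker' hψ with e' | e'
    · have ez : z = V := by
        rw [hV, A.mv_eq gu]
        exact mul_inv_eq_one.mp e'
      exact nVI (B.nov V Vmem Va (ez ▸ zb) VC VD VE VF VG)
    · have ez : z = a * V := by
        rw [hV, A.mv_eq gu]
        exact mul_inv_eq_iff_eq_mul.mp e'
      have nVg : V ≠ A.mv vG := fun e'' => nVI (by rw [e'']; exact cmx 8 6 (by decide))
      obtain ⟨yv, gyv, eyv⟩ := K.mv_surj Vmem nVg VG.symm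
      have e3 : V * B.b * V = a * B.b * a := by
        have hh : a * V * B.b = B.b * (a * V) := by rw [← ez]; exact zb
        have aa : a * a = 1 := A.hsq
        have VV : V * V = 1 := A.mv_sq gu
        calc V * B.b * V = a * a * V * B.b * V := by rw [aa, one_mul]
          _ = a * (a * V * B.b) * V := by simp only [mul_assoc]
          _ = a * B.b * a * (V * V) := by rw [hh]; simp only [mul_assoc]
          _ = a * B.b * a := by rw [VV, mul_one]
      have ea : K.mv ya = a := eya
      have eb' : K.mv yb = B.b := eyb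
      have e3' : K.mv yv * K.mv yb * K.mv yv = K.mv ya * K.mv yb * K.mv ya := by
        rw [eyv, ea, eb']
        exact e3
      rw [K.mv_refl L gyb gyv, K.mv_refl L gyb gya] at e3'
      obtain ⟨c0, hc0⟩ := (K.mv_eq_iff (refl_good hF gyb gyv) (refl_good hF gyb gya)).mp e3'
      have hva : h yv ya = 0 := (K.mv_comm_iff gyv gya).mp (by rw [eyv, ea]; exact Va)
      have hba : h yb ya ≠ 0 := fun e'' => B.nab (by
        have := (K.mv_comm_iff gyb gya).mpr e''
        rw [ea, eb'] at this
        exact this.symm)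
      have := congrArg (fun q => h q ya) hc0
      simp only [h_add_left, h_smul_left, hva, gya.2, mul_zero, add_zero] at this
      have c1 : c0 = 1 := mul_right_cancel₀ hba (by rw [one_mul]; exact this.symm)
      rw [c1, one_smul] at hc0
      have e4 := add_left_cancel hc0
      have hbv : h yb yv ≠ 0 := fun e'' => by
        rw [e'', zero_smul] at e4
        exact hba ((smul_eq_zero.mp e4.symm).resolve_right gya.1)
      have hV' : yv = ((h yb yv)⁻¹ * h yb ya) • ya := by
        rw [mul_smul, ← e4, smul_smul, inv_mul_cancel₀ hbv, one_smul]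
      have : V = a := by
        rw [show V = K.mv yv from eyv.symm, hV', K.mv_smul gya (mul_ne_zero (inv_ne_zero hbv) hba), ea]
      exact nVI (by rw [this]; exact (A.mv_comm_base gI).symm)

end CfsgLib.Fi22Loc.Rec
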