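import Cfsg.Agent.Lib.Fi22Loc.Rec.Invol
import Cfsg.Agent.S0111
import Cfsg.Agent.S1713
import Cfsg.Agent.S2079

/-!
A group with a local class whose centralisers are twice their derived subgroups is the automorphism group of Fi22.
-/

set_option autoImplicit false
set_option linter.unusedSectionVars false
set_option maxRecDepth 100000

namespace CfsgLib.Fi22Loc.Rec

open Cfsg CfsgLib CfsgLib.UnitaryTransvection CfsgLib.UnitarySimple CfsgThreeTrans CfsgThreeTrans.M22
open CfsgLib.CosetEnum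
open CfsgFi22Rec (DP)

local notation "a₀" => Fi22Class.ta

/-- The generators of the presentation have trivial common centraliser. -/
theorem central22 {x : presFi22.Grp} (h : ∀ y, Commute x y) : x = 1 :=
  Fi22Aut.central_one fun p _ => (h (presFi22.σ p.1)).eq

/-- An outer involution fixing the base. -/
theorem exists_outer : ∃ β : MulAut presFi22.Grp, β a₀ = a₀ ∧ β * β = 1 ∧ ∀ y, β ≠ MulAut.conj y := by
  obtain ⟨c, hc⟩ := isConj_iff.mp (gen_mem (i := 3) (by norm_num))
  set γ : MulAut presFi22.Grp := MulAut.conj c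
  refine ⟨γ⁻¹ * Fi22Aut.θA * γ, ?_, ?_, fun y hy => Fi22Aut.θA_outer ⟨c * y * c⁻¹, ?_⟩⟩
  · show γ⁻¹ (Fi22Aut.θA (γ a₀)) = a₀
    rw [show γ a₀ = presFi22.σ 3 from hc, show Fi22Aut.θA (presFi22.σ 3) = presFi22.σ 3 from
      (Fi22Aut.θ_σ (x := 3) (by norm_num)).trans rfl, ← hc]
    exact γ.symm_apply_apply _
  · have : Fi22Aut.θA * Fi22Aut.θA = 1 := MulEquiv.ext Fi22Aut.θ_θ
    rw [show γ⁻¹ * Fi22Aut.θA * γ * (γ⁻¹ * Fi22Aut.θA * γ) = γ⁻¹ * (Fi22Aut.θA * Fi22Aut.θA) * γ by group, this,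
      mul_one, inv_mul_cancel]
  · rw [map_mul, map_mul, map_inv, ← hy]
    show γ * (γ⁻¹ * Fi22Aut.θA * γ) * γ⁻¹ = _
    group

theorem card_aut22 : Nat.card (MulAut presFi22.Grp) = Nat.card presFi22.Grp * 2 := by
  haveI : Finite presFi22.Grp := Cfsg.Agent.S1696.upper.1
  have h := (Cfsg.Inn presFi22.Grp).card_mul_index
  rw [show (Cfsg.Inn presFi22.Grp).index = 2 from Cfsg.Agent.S2079.result] at h
  rw [← h]
  congr 1
  refine (Nat.card_congr (MonoidHom.ofInjective (f := (MulAut.conj : presFi22.Grp →* MulAut presFi22.Grp)) ?_).toEquiv).symm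
  rw [injective_iff_map_eq_one]
  intro x hx
  refine central22 fun y => ?_
  have := DFunLike.congr_fun hx y
  simp only [MulAut.conj_apply, MulAut.one_apply] at this
  exact mul_inv_eq_iff_eq_mul.mp this

variable {F : Type} [Field F] [Fintype F] [DecidableEq F] {hF : Fintype.card F = 2 ^ 2}
variable {G : Type*} [Group G] [Finite G] {D : Set G} {a : G}

/-- A simple image with a central kernel of two elements makes a perfect group quasisimple. -/
theorem quasisimple_of_cover {X : Type*} [Group X] {Y : Type*} [Group Y] [IsSimpleGroup Y] (ψ : X →* Y)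
    (sur : Function.Surjective ψ) (hp : commutator X = ⊤) (hY : commutator Y = ⊤)
    (hk : ψ.ker ≤ Subgroup.center X) : Cfsg.IsQuasisimple X := by
  haveI : Nontrivial Y := inferInstance
  have hc : Subgroup.center X = ψ.ker := le_antisymm (fun c hc => by
    have hcy : ψ c ∈ Subgroup.center Y := Subgroup.mem_center_iff.mpr fun y => by
      obtain ⟨x, rfl⟩ := sur y
      rw [← map_mul, ← map_mul, Subgroup.mem_center_iff.mp hc x]
    rcases (inferInstance : (Subgroup.center Y).Normal).eq_bot_or_eq_top with e | e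
    · exact MonoidHom.mem_ker.mpr (Subgroup.mem_bot.mp (e ▸ hcy))
    · exfalso
      refine top_ne_bot (α := Subgroup Y) ?_
      rw [← hY, commutator_def, Subgroup.commutator_eq_bot_iff_le_centralizer]
      intro x _
      exact Subgroup.mem_centralizer_iff.mpr fun y _ => Subgroup.mem_center_iff.mp (e ▸ Subgroup.mem_top x) y) hk
  refine ⟨⟨hp⟩, ?_⟩
  exact ((QuotientGroup.quotientMulEquivOfEq hc).trans
    (QuotientGroup.quotientKerEquivOfSurjective ψ sur)).isSimpleGroup

namespace Emb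

variable (E : Emb D hF a)
include E

/-- The action on the presented group. -/
noncomputable def act : ↥E.N →* MulAut presFi22.Grp :=
  let e : presFi22.Grp ≃* ↥E.K := MonoidHom.ofInjective E.inj
  (MulAut.congr e.symm).toMonoidHom.comp E.K.normalizerMonoidHom

theorem act_spec (n : ↥E.N) (x : presFi22.Grp) : E.f (E.act n x) = n * E.f x * (n : G)⁻¹ := by
  let e : presFi22.Grp ≃* ↥E.K := MonoidHom.ofInjective E.inj
  have h : ∀ k : ↥E.K, E.f (e.symm k) = (k : G) := fun k => congrArg Subtype.val (e.apply_symm_apply k)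
  exact h _

/-- The group is the automorphism group of Fi22. -/
theorem whole (hD : ∀ y ∈ D, ∃ g, y = g * a * g⁻¹)
    (hidx : (commutator ↥(Subgroup.centralizer ({a} : Set G))).index = 2)
    (hcc : ∀ g, Commute a g → (∀ s ∈ LC a, Commute g s) → g = 1 ∨ g = a) :
    Nonempty (G ≃* MulAut presFi22.Grp) := by
  classical
  haveI : Finite presFi22.Grp := CfsgThreeTrans.Exist.finite22
  haveI : IsSimpleGroup presFi22.Grp := Cfsg.Agent.S1696.result.1
  set C := Subgroup.centralizer ({a} : Set G) with hC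
  have inLC : ∀ x : ↥C, x ∈ commutator ↥C → (x : G) ∈ LC a := fun x hx => ⟨x, hx, rfl⟩
  have LCin : ∀ x : ↥C, (x : G) ∈ LC a → x ∈ commutator ↥C := fun x ⟨y, hy, e⟩ => by
    rwa [show x = y from Subtype.ext e.symm]
  have a1 : a ≠ 1 := (E.loc.mem_one E.ha).2
  have aa : a * a = 1 := (E.loc.mem_one E.ha).1
  -- the action is faithful
  have hinj : Function.Injective E.act := (injective_iff_map_eq_one _).mpr fun n hn => by
    have cK : ∀ x, Commute (n : G) (E.f x) := fun x => by
      have := E.act_spec n x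
      rw [hn, MulAut.one_apply] at this
      exact (mul_inv_eq_iff_eq_mul.mp this.symm)
    have ca : Commute a (n : G) := by
      have := (cK a₀).symm
      rwa [E.base] at this
    refine Subtype.ext ((hcc _ ca fun s hs => ?_).resolve_right fun e => a1 ?_)
    · obtain ⟨x, -, rfl⟩ := E.LC_base hs
      exact cK x
    · have : (a₀ : presFi22.Grp) = 1 := central22 fun y => E.inj (by
        have := cK y
        rw [e] at this
        rw [map_mul, map_mul, E.base]
        exact this.eq)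
      rw [← E.base, this, map_one]
  -- the normaliser is larger
  have hne : E.N ≠ E.K := fun e => by
    have : commutator ↥C = ⊤ := by
      rw [eq_top_iff]
      intro x _
      have hx : (x : G) ∈ E.K := e ▸ E.cent_base (mem_cent.mp x.2)
      obtain ⟨y, hy⟩ := hx
      refine LCin x ?_
      rw [← hy]
      exact E.comm_LC (E.inj (by rw [map_mul, map_mul, E.base, hy]; exact (mem_cent.mp x.2).eq))
    rw [this, Subgroup.index_top] at hidx
    omega
  have hK : Nat.card E.K = Nat.card presFi22.Grp :=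
    (Nat.card_congr (MonoidHom.ofInjective E.inj).toEquiv).symm
  have hcard : Nat.card E.N = 2 * Nat.card E.K := by
    have h1 : Nat.card E.N ≤ 2 * Nat.card E.K := by
      rw [hK, mul_comm, ← card_aut22]
      haveI : Finite (MulAut presFi22.Grp) := Finite.of_injective (fun α => (α : presFi22.Grp → presFi22.Grp))
        DFunLike.coe_injective
      exact Nat.card_le_card_of_injective _ hinj
    obtain ⟨k, hk⟩ := Subgroup.card_dvd_of_le E.K_le
    have k1 : k ≠ 1 := fun e => hne (Subgroup.eq_of_le_of_card_ge E.K_le (by rw [hk, e, mul_one])).symm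
    have kp : 0 < Nat.card E.K := Nat.card_pos
    have k0 : k ≠ 0 := fun e => (Nat.card_pos (α := E.N)).ne' (by rw [hk, e, mul_zero])
    rw [hk, mul_comm 2] at h1
    rw [hk, mul_comm 2]
    have := Nat.le_of_mul_le_mul_left h1 kp
    rw [show k = 2 by omega]
  have hsurj : Function.Surjective E.act := by
    haveI : Finite (MulAut presFi22.Grp) := Finite.of_injective (fun α => (α : presFi22.Grp → presFi22.Grp))
      DFunLike.coe_injective
    exact ((Nat.bijective_iff_injective_and_card _).mpr ⟨hinj, by rw [hcard, hK, card_aut22, mul_comm]⟩).2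
  -- the outer involution
  obtain ⟨β, βa, ββ, βout⟩ := exists_outer
  obtain ⟨⟨w, wN⟩, hw⟩ := hsurj β
  have ww : w * w = 1 := congrArg Subtype.val (hinj (a₁ := ⟨w, wN⟩ * ⟨w, wN⟩) (a₂ := 1)
    (by rw [map_mul, hw, map_one, ββ]))
  have cw : Commute a w := by
    have := E.act_spec ⟨w, wN⟩ a₀
    rw [hw, βa, E.base] at this
    exact (mul_inv_eq_iff_eq_mul.mp this.symm).symm
  have wK : w ∉ E.K := fun ⟨y, hy⟩ => βout y (MulEquiv.ext fun x => E.inj (by
    have := E.act_spec ⟨w, wN⟩ x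
    rw [hw] at this
    rw [this, MulAut.conj_apply, map_mul, map_mul, map_inv, hy]))
  have w1 : w ≠ 1 := fun e => wK (e ▸ one_mem _)
  have Kidx : (E.K.subgroupOf E.N).index = 2 := by
    have := (E.K.subgroupOf E.N).card_mul_index
    rw [Nat.card_congr (Subgroup.subgroupOfEquivOfLe E.K_le).toEquiv, hcard, mul_comm 2] at this
    exact Nat.eq_of_mul_eq_mul_left Nat.card_pos this
  -- no conjugate of it is inside
  have noconj : ∀ g : G, g * w * g⁻¹ ∉ E.K := fun g hz => by
    have zz : g * w * g⁻¹ * (g * w * g⁻¹) = 1 := by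
      rw [show g * w * g⁻¹ * (g * w * g⁻¹) = g * (w * w) * g⁻¹ by group, ww, mul_one, mul_inv_cancel]
    have z1 : g * w * g⁻¹ ≠ 1 := fun e => w1 (by
      have := congrArg (fun v => g⁻¹ * v * g) e
      simpa [mul_assoc] using this)
    have hg : g ∈ E.N := E.mem_of_conj E.d_mem (E.cent_invol hz zz z1 (cw.symm.map (MulAut.conj g).toMonoidHom))
    refine wK ?_
    exact (Subgroup.mem_normalizer_iff.mp hg w).mpr hz
  -- a Sylow subgroup of the group inside the normaliser
  haveI : Fact (Nat.Prime 2) := ⟨Nat.prime_two⟩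
  have p2 : ∀ {x : G}, x * x = 1 → IsPGroup 2 (Subgroup.zpowers x) := fun {x} hx => by
    rintro ⟨_, ⟨n, rfl⟩⟩
    refine ⟨1, Subtype.ext ?_⟩
    show (x ^ n) ^ 2 ^ 1 = 1
    rw [pow_one, pow_two, ← zpow_add, ← two_mul, zpow_mul, zpow_two, hx, one_zpow]
  have hV : IsPGroup 2 (Subgroup.zpowers w ⊔ Subgroup.zpowers a : Subgroup G) :=
    (p2 ww).to_sup_of_normal_right' (p2 aa) (by
      rw [Subgroup.zpowers_le]
      exact Subgroup.centralizer_le_normalizer _ (Subgroup.mem_centralizer_iff.mpr fun x hx => by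
        obtain ⟨n, rfl⟩ := hx
        exact (cw.zpow_left n).eq))
  have hVN : Subgroup.zpowers w ⊔ Subgroup.zpowers a ≤ E.N :=
    sup_le (Subgroup.zpowers_le.mpr wN) (Subgroup.zpowers_le.mpr (E.DK_N E.d_mem))
  obtain ⟨S, hS⟩ := (hV.comap_of_injective E.N.subtype E.N.subtype_injective).exists_le_sylow
  set S' : Subgroup G := (S : Subgroup E.N).map E.N.subtype with hS'
  have wS : w ∈ S' := ⟨⟨w, wN⟩, hS (Subgroup.mem_sup_left (Subgroup.mem_zpowers w)), rfl⟩
  have aS : a ∈ S' :=
    ⟨⟨a, E.DK_N E.d_mem⟩, hS (Subgroup.mem_sup_right (Subgroup.mem_zpowers a)), rfl⟩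
  obtain ⟨P, hP⟩ := (S.2.map E.N.subtype).exists_le_sylow
  have hPN : (P : Subgroup G) ⊓ E.N ≤ S' := fun x ⟨hx, hxN⟩ => by
    have h1 : IsPGroup 2 ((P : Subgroup G).comap E.N.subtype) :=
      P.2.comap_of_injective E.N.subtype E.N.subtype_injective
    have h2 := S.is_maximal' h1 (fun y hy => hP ⟨y, hy, rfl⟩)
    exact ⟨⟨x, hxN⟩, h2.le hx, rfl⟩
  have hPeq : (P : Subgroup G) = S' := by
    refine le_antisymm ?_ hP
    by_contra hlt
    have hne : S'.subgroupOf (P : Subgroup G) < ⊤ := lt_top_iff_ne_top.mpr fun e =>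
      hlt (Subgroup.subgroupOf_eq_top.mp e)
    haveI := P.2.isNilpotent
    obtain ⟨⟨g, gP⟩, hgn, hgS⟩ := SetLike.exists_of_lt (Group.normalizerCondition_of_isNilpotent _ hne)
    have := (Subgroup.mem_normalizer_iff.mp hgn ⟨a, hP aS⟩).mp aS
    have gN : g ∈ E.N := E.mem_of_conj E.d_mem (by
      have h : g * a * g⁻¹ ∈ S' := this
      obtain ⟨y, -, e⟩ := h
      rw [← e]; exact y.2)
    exact hgS (hPN ⟨gP, gN⟩)
  have hPle : (P : Subgroup G) ≤ E.N := by rw [hPeq]; rintro _ ⟨y, -, rfl⟩; exact y.2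
  have hrel : ((P : Subgroup G) ⊓ E.K).relIndex (P : Subgroup G) = 2 := by
    rw [inf_comm, Subgroup.inf_relIndex_right]
    refine Subgroup.index_eq_two_iff.mpr ⟨⟨w, hPeq ▸ wS⟩, fun b => ?_⟩
    have key := Subgroup.mul_mem_iff_of_index_two Kidx (a := ⟨(b : G), hPle b.2⟩) (b := ⟨w, wN⟩)
    simp only [Subgroup.mem_subgroupOf, Subgroup.coe_mul] at key ⊢
    by_cases hb : (b : G) ∈ E.K
    · exact Or.inr ⟨hb, fun h => wK ((key.mp h).mp hb)⟩
    · exact Or.inl ⟨key.mpr (iff_of_false hb wK), hb⟩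
  have ow : orderOf w = 2 := orderOf_eq_prime (by rw [pow_two, ww]) w1
  rcases Cfsg.Agent.S0111.result P ((P : Subgroup G) ⊓ E.K) inf_le_left hrel w ow (hPeq ▸ wS)
    (fun h => wK h.2) with ⟨M, hMn, hM2, wM⟩ | ⟨g, hg⟩
  swap
  · exact absurd hg.2 (noconj g)
  haveI := hMn
  -- the subgroup of index two
  have hLM : ∀ s ∈ LC a, s ∈ M := by
    rintro _ ⟨x, hx, rfl⟩
    have : commutator ↥C ≤ M.comap C.subtype := by
      rw [commutator_def, Subgroup.commutator_le]
      intro p _ q _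
      show (p : G) * q * (p : G)⁻¹ * (q : G)⁻¹ ∈ M
      rw [Subgroup.mul_mem_iff_of_index_two hM2, Subgroup.mul_mem_iff_of_index_two hM2,
        Subgroup.mul_mem_iff_of_index_two hM2, inv_mem_iff, inv_mem_iff]
      tauto
    exact this hx
  have hCM : ∀ x, Commute a x → x ∈ M → x ∈ LC a := fun x hx xM => by
    have wC : w ∈ C := mem_cent.mpr cw
    have wnot : (⟨w, wC⟩ : ↥C) ∉ commutator ↥C := fun h => wM (hLM _ (inLC _ h))
    by_contra hn
    have xn : (⟨x, mem_cent.mpr hx⟩ : ↥C) ∉ commutator ↥C := fun h => hn (inLC _ h)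
    have := hLM _ (inLC _ ((Subgroup.mul_mem_iff_of_index_two hidx).mpr (iff_of_false xn wnot)))
    exact wM ((Subgroup.mul_mem_iff_of_index_two hM2).mp (this : x * w ∈ M) |>.mp xM)
  obtain ⟨A⟩ := E.loc.chart a E.ha
  have aM : a ∈ M := hLM a A.own
  set d : ↥M := ⟨a, aM⟩
  let CM := Subgroup.centralizer ({d} : Set ↥M)
  let τ : ↥CM ≃* ↥(LC a) :=
    { toFun := fun x => ⟨x.1, hCM _ (by
        have := (mem_cent.mp x.2).map M.subtype
        exact this) x.1.2⟩
      invFun := fun s => ⟨⟨s, hLM _ s.2⟩, mem_cent.mpr (Subtype.ext (LC_comm s.2).eq)⟩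
      left_inv := fun _ => rfl
      right_inv := fun _ => rfl
      map_mul' := fun _ _ => rfl }
  let ψ : ↥CM →* Cfsg.PSU 6 F 2 := A.ψ.comp τ.toMonoidHom
  have sur : Function.Surjective ψ := A.sur.comp τ.surjective
  have ker : ∀ x, ψ x = 1 ↔ ((x : ↥M) : G) = 1 ∨ ((x : ↥M) : G) = a := fun x => A.ker (τ x)
  haveI : IsSimpleGroup (Cfsg.PSU 6 F 2) :=
    Cfsg.Agent.S0283.result (F := F) (q := 2) hF 6 (by norm_num) (by norm_num)
  have perf : commutator ↥CM = ⊤ := by
    refine Subgroup.map_injective (f := τ.toMonoidHom) τ.injective ?_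
    rw [commutator_def, Subgroup.map_commutator, Subgroup.map_top_of_surjective _ τ.surjective, ← commutator_def,
      A.perfect]
  have hq : Cfsg.IsQuasisimple ↥CM := quasisimple_of_cover ψ sur perf (CfsgFi22Rec.psu_perfect (hF := hF))
    fun x hx => Subgroup.mem_center_iff.mpr fun y => by
      refine Subtype.ext ?_
      rcases (ker x).mp (MonoidHom.mem_ker.mp hx) with e | e
      · rw [show x = 1 from Subtype.ext (Subtype.ext e)]; simp
      · rw [Subgroup.coe_mul, Subgroup.coe_mul, show (x : ↥M) = d from Subtype.ext e]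
        exact (mem_cent.mp y.2).eq.symm
  have zk : (Subgroup.zpowers d).subgroupOf CM = ψ.ker := by
    ext x
    rw [Subgroup.mem_subgroupOf, MonoidHom.mem_ker, ker, Subgroup.mem_zpowers_iff]
    constructor
    · rintro ⟨n, hn⟩
      have hn' : a ^ n = ((x : ↥M) : G) := by rw [← hn]; simp [d]
      rw [← hn']
      rcases Int.even_or_odd n with ⟨m, rfl⟩ | ⟨m, rfl⟩
      · exact Or.inl (by rw [← two_mul, zpow_mul, zpow_two, aa, one_zpow])
      · exact Or.inr (by rw [zpow_add_one, zpow_mul, zpow_two, aa, one_zpow, one_mul])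
    · rintro (e | e)
      exacts [⟨0, Subtype.ext (by rw [e]; simp)⟩, ⟨1, Subtype.ext (by rw [e]; simp [d])⟩]
  haveI : ((Subgroup.zpowers d).subgroupOf CM).Normal := zk ▸ inferInstance
  obtain ⟨v0⟩ : Nonempty (Iso F) := ⟨⟨![1, 1, 0, 0, 0, 0], fun k => by simpa using congrFun k 0, by
    simp [Cfsg.hermForm, Fin.sum_univ_six, CfsgThreeTrans.M22.add_self hF]⟩⟩
  have nwc : ∃ g : ↥M, g * d * g⁻¹ ∈ CM ∧ g * d * g⁻¹ ≠ d := by
    obtain ⟨g, hg⟩ := hD _ (A.pnt_mem v0)
    have wC : w * a * w⁻¹ = a := mul_inv_eq_iff_eq_mul.mpr cw.symm.eq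
    obtain ⟨g', g'M, hg'⟩ : ∃ g' ∈ M, g' * a * g'⁻¹ = A.pnt v0 := by
      by_cases gM : g ∈ M
      · exact ⟨g, gM, hg.symm⟩
      · refine ⟨g * w, (Subgroup.mul_mem_iff_of_index_two hM2).mpr (iff_of_false gM wM), ?_⟩
        rw [hg, show g * w * a * (g * w)⁻¹ = g * (w * a * w⁻¹) * g⁻¹ by group, wC]
    refine ⟨⟨g', g'M⟩, mem_cent.mpr (Subtype.ext ?_), fun e => A.pnt_ne v0 ?_⟩
    · show a * (g' * a * g'⁻¹) = g' * a * g'⁻¹ * a
      rw [hg']; exact (A.pnt_comm v0).eq
    · rw [← hg']; exact congrArg Subtype.val e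
  obtain ⟨iso⟩ := Cfsg.Agent.S1713.result d (orderOf_eq_prime (Subtype.ext (by show a ^ 2 = 1; rw [pow_two, aa]))
    fun e => a1 (congrArg Subtype.val e)) hq F (by rw [hF]; norm_num)
    ((QuotientGroup.quotientMulEquivOfEq zk).trans (QuotientGroup.quotientKerEquivOfSurjective ψ sur)) nwc
  have hKM : E.K ≤ M := by
    rcases (Subgroup.Normal.comap hMn E.f).eq_bot_or_eq_top with e | e
    · exfalso
      have : (a₀ : presFi22.Grp) ∈ M.comap E.f := by rw [Subgroup.mem_comap, E.base]; exact aM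
      rw [e, Subgroup.mem_bot] at this
      exact a1 (by rw [← E.base, this, map_one])
    · rintro _ ⟨x, rfl⟩
      exact Subgroup.mem_comap.mp (e ▸ Subgroup.mem_top x)
  have hMK : E.K = M := Subgroup.eq_of_le_of_card_ge hKM (le_of_eq ((Nat.card_congr iso.toEquiv).trans hK.symm))
  have hN : E.N = ⊤ := Subgroup.normalizer_eq_top_iff.mpr (hMK ▸ hMn)
  exact ⟨(Subgroup.topEquiv.symm.trans (MulEquiv.subgroupCongr hN.symm)).trans
    (MulEquiv.ofBijective E.act ⟨hinj, hsurj⟩)⟩

end Emb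

end CfsgLib.Fi22Loc.Rec
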